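import Mathlib
import Cfsg.Agent.Lib.SympGen
import Cfsg.Agent.Lib.SympSimple

/-! Root elements and counting lemmas for the minimal index of `PSp_{2m}(q)`. -/

set_option autoImplicit false

namespace CfsgLib.SpMin

open Matrix
open CfsgLib.SympTransvection (tv transitive)
open CfsgLib.SympGen
open CfsgLib.SympSimple (ext_apply shear shear_apply mulVec_ne_zero)

variable {F : Type*} [Field F] {m : ℕ}

local notation "Vec" => (Fin m ⊕ Fin m → F)
local notation "Sp" => Matrix.symplecticGroup (Fin m) F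

/-- The number of points. -/
def npts (q : ℕ) : ℕ → ℕ
  | 0 => 0
  | k + 1 => q ^ 2 * npts q k + q + 1

theorem npts_spec {q : ℕ} (hq : 1 ≤ q) (k : ℕ) : npts q k * (q - 1) + 1 = q ^ (2 * k) := by
  obtain ⟨r, rfl⟩ : ∃ r, q = r + 1 := ⟨q - 1, by omega⟩
  rw [Nat.add_sub_cancel]
  induction k with
  | zero => simp [npts]
  | succ k ih =>
    rw [show 2 * (k + 1) = 2 * k + 2 from rfl, pow_add, ← ih, npts]
    ring

theorem npts_eq {q : ℕ} (hq : 2 ≤ q) (k : ℕ) : (q ^ (2 * k) - 1) / (q - 1) = npts q k := by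
  rw [← npts_spec (by omega) k, Nat.add_sub_cancel, Nat.mul_div_cancel _ (by omega)]

theorem lt_npts_succ (q k : ℕ) : q < npts q (k + 1) := by
  rw [npts]
  omega

/-! ### Root elements -/

theorem ext_bas {g h : Sp} (e : ∀ i, g.1 *ᵥ bas i = h.1 *ᵥ bas i) : g = h :=
  Subtype.ext (Matrix.ext_of_mulVec_single e)

/-- The element `x ↦ x + B(x,u)v + B(x,v)u + zB(x,v)v`. -/
def qe (v u : Vec) (z : F) : Sp := shear v u * tv v z

theorem qe_apply {v u : Vec} (h : B v u = 0) (z : F) (x : Vec) :
    (qe v u z).1 *ᵥ x = x + B x u • v + B x v • u + (z * B x v) • v := by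
  rw [qe, SympGen.mul_apply, shear_apply h, tv_apply, B_add_left, B_add_left, B_smul_left, B_smul_left,
    B_self, h]
  module

theorem conj_qe (g : Sp) (v u : Vec) (z : F) : g * qe v u z * g⁻¹ = qe (g.1 *ᵥ v) (g.1 *ᵥ u) z := by
  simp only [qe, shear]
  have h : ∀ a b : Sp, g * (a * b) * g⁻¹ = (g * a * g⁻¹) * (g * b * g⁻¹) := fun a b => by group
  rw [h, h, h, conj_tv, conj_tv, conj_tv, conj_tv, Matrix.mulVec_add]

theorem qe_zero_left (v : Vec) (z : F) : qe v 0 z = tv v z := by
  apply ext_apply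
  intro x
  rw [qe_apply (by simp [B]), tv_apply]
  simp [B]

theorem qe_mul {v u u' : Vec} (h : B v u = 0) (h' : B v u' = 0) (z z' : F) :
    qe v u z * qe v u' z' = qe v (u + u') (z + z' + B u' u) := by
  apply ext_apply
  intro x
  have h1 : B v (u + u') = 0 := by rw [B_add_right, h, h', add_zero]
  have h2 : B u' v = 0 := by rw [B_swap, h', neg_zero]
  rw [SympGen.mul_apply, qe_apply h', qe_apply h, qe_apply h1]
  simp only [B_add_left, B_add_right, B_smul_left, B_self, h, h2]
  module

theorem qe_one (v : Vec) : qe v 0 (0 : F) = 1 := by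
  rw [qe_zero_left, SympSimple.tv_zero]

theorem qe_inv {v u : Vec} (h : B v u = 0) (z : F) : (qe v u z)⁻¹ = qe v (-u) (-z) := by
  refine inv_eq_of_mul_eq_one_right ?_
  rw [qe_mul h (by rw [← neg_one_smul F u, B_smul_right, h, mul_zero]), add_neg_cancel, add_neg_cancel,
    zero_add, ← neg_one_smul F u, B_smul_left, B_self, mul_zero, qe_one]

theorem qe_pow {v u : Vec} (h : B v u = 0) (z : F) (n : ℕ) :
    qe v u z ^ n = qe v ((n : F) • u) ((n : F) * z) := by
  induction n with
  | zero => simp [qe_one]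
  | succ n ih =>
    rw [pow_succ, ih, qe_mul (by rw [B_smul_right, h, mul_zero]) h, B_smul_right, B_self, mul_zero, add_zero,
      Nat.cast_succ, add_smul, one_smul, add_mul, one_mul]

theorem qe_smul_left {v u : Vec} (h : B v u = 0) (a z : F) : qe (a • v) u z = qe v (a • u) (a ^ 2 * z) := by
  apply ext_apply
  intro x
  rw [qe_apply (by rw [B_smul_left, h, mul_zero]), qe_apply (by rw [B_smul_right, h, mul_zero])]
  simp only [B_smul_right]
  module

theorem qe_add_line {v u : Vec} (h : B v u = 0) (t z : F) : qe v (u + t • v) z = qe v u (z + 2 * t) := by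
  apply ext_apply
  intro x
  rw [qe_apply (by rw [B_add_right, h, B_smul_right, B_self, mul_zero, add_zero]), qe_apply h]
  simp only [B_add_right, B_smul_right]
  module

theorem qe_swap {v u : Vec} (h : B v u = 0) : qe v u (0 : F) = qe u v 0 := by
  apply ext_apply
  intro x
  rw [qe_apply h, qe_apply (by rw [B_swap, h, neg_zero])]
  module

theorem tv_pow (v : Vec) (z : F) (n : ℕ) : tv v z ^ n = tv v ((n : F) * z) := by
  rw [← qe_zero_left, qe_pow (by simp [B]), smul_zero, qe_zero_left]

theorem eq_zero_of_tv_eq_one {v : Vec} (hv : v ≠ 0) {z : F} (h : tv v z = 1) : z = 0 := by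
  obtain ⟨x, hx⟩ := SympTransvection.exists_dot_ne hv
  have := congrArg (fun g : Sp => g.1 *ᵥ x) h
  simp only [tv_apply, SympGen.one_apply, add_eq_left, smul_eq_zero, mul_eq_zero] at this
  exact (this.resolve_right hv).resolve_right hx

/-! ### Roots in a subgroup -/

/-- The root group of `v` lies in `H`. -/
def Rt (H : Subgroup Sp) (v : Vec) : Prop := ∀ c : F, tv v c ∈ H

/-- No root group lies in `H`. -/
def NoRt (H : Subgroup Sp) : Prop := ∀ v : Vec, v ≠ 0 → ¬ Rt H v

/-- The Siegel elements of the point `v` in `H` involve all vectors orthogonal to `v`. -/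
def TypeO (H : Subgroup Sp) (v : Vec) : Prop := ∀ u : Vec, B v u = 0 → ∃ z, qe v u z ∈ H

/-- The conjugate subgroup `g⁻¹Hg`. -/
def cj (g : Sp) (H : Subgroup Sp) : Subgroup Sp := H.comap (MulAut.conj g).toMonoidHom

theorem mem_cj {g : Sp} {H : Subgroup Sp} {x : Sp} : x ∈ cj g H ↔ g * x * g⁻¹ ∈ H := Iff.rfl

theorem index_cj (g : Sp) (H : Subgroup Sp) : (cj g H).index = H.index :=
  Subgroup.index_comap_of_surjective H (MulAut.conj g).surjective

theorem noRt_cj {g : Sp} {H : Subgroup Sp} (h : NoRt H) : NoRt (cj g H) := fun v hv hR =>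
  h (g.1 *ᵥ v) (mulVec_ne_zero g hv) fun c => by rw [← conj_tv]; exact hR c

theorem ne_top_cj {g : Sp} {H : Subgroup Sp} (h : H ≠ ⊤) : cj g H ≠ ⊤ := fun e => h <| by
  rw [eq_top_iff]
  intro x _
  have : g⁻¹ * x * g ∈ cj g H := by rw [e]; trivial
  rw [mem_cj] at this
  simpa [mul_assoc] using this

theorem typeO_cj {g : Sp} {H : Subgroup Sp} {v : Vec} (h : TypeO (cj g H) v) : TypeO H (g.1 *ᵥ v) := by
  intro u hu
  obtain ⟨z, hz⟩ := h ((g⁻¹).1 *ᵥ u) (by
    rw [← B_map g, ← SympGen.mul_apply, mul_inv_cancel, SympGen.one_apply]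
    exact hu)
  refine ⟨z, ?_⟩
  rw [mem_cj, conj_qe, ← SympGen.mul_apply, mul_inv_cancel, SympGen.one_apply] at hz
  exact hz

/-! ### Counting -/

/-- A set with transitive action meets every translate of the part supported on an invariant object. -/
theorem card_le_index_mul {G α : Type*} [Group G] [Finite G] (act : G → α → α)
    (hmul : ∀ g h a, act (g * h) a = act g (act h a)) (H : Subgroup G) (A T : Set α) [Finite T]
    (hT : ∀ h ∈ H, ∀ a ∈ T, act h a ∈ T) {a0 : α} (ha0 : a0 ∈ T)
    (htr : ∀ a ∈ A, ∃ g, act g a0 = a) : A.ncard ≤ H.index * T.ncard := by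
  classical
  rw [← Nat.card_coe_set_eq T, Subgroup.index, ← Nat.card_prod]
  have hsub : A ⊆ Set.range (fun x : (G ⧸ H) × T => act x.1.out x.2.1) := by
    intro a ha
    obtain ⟨g, rfl⟩ := htr a ha
    obtain ⟨h, hh⟩ := QuotientGroup.mk_out_eq_mul H g
    refine ⟨((g : G ⧸ H), ⟨act (h⁻¹ : H).1 a0, hT _ (h⁻¹).2 _ ha0⟩), ?_⟩
    show act _ (act _ a0) = act g a0
    rw [hh, ← hmul]
    simp [mul_assoc]
  refine (Set.ncard_le_ncard hsub (Set.finite_range _)).trans ?_
  rw [← Set.image_univ]
  exact (Set.ncard_image_le).trans (by rw [Set.ncard_univ])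

/-- Three proper subspaces do not cover, over a field with at least three elements. -/
theorem avoid3 [Fintype F] {V : Type*} [AddCommGroup V] [Module F V] [Finite V] (hq : 3 ≤ Fintype.card F)
    (A B C : Submodule F V) (hA : A ≠ ⊤) (hB : B ≠ ⊤) (hC : C ≠ ⊤) : ∃ x, x ∉ A ∧ x ∉ B ∧ x ∉ C := by
  classical
  by_contra hcon
  push Not at hcon
  have key : ∀ A : Submodule F V, A ≠ ⊤ → 3 * Nat.card A ≤ Nat.card V := by
    intro A hA
    obtain ⟨x, hx⟩ : ∃ x, x ∉ A := by
      by_contra h
      push Not at h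
      exact hA (eq_top_iff.2 fun x _ => h x)
    have hinj : Function.Injective (fun p : F × A => p.1 • x + (p.2 : V)) := by
      rintro ⟨a, u⟩ ⟨b, w⟩ h
      simp only at h
      have : (a - b) • x = (w : V) - u := by
        rw [sub_smul, sub_eq_sub_iff_add_eq_add, add_comm (w : V)]
        exact h
      have hab : a = b := by
        by_contra hne
        apply hx
        have h2 : (a - b)⁻¹ • ((a - b) • x) ∈ A := A.smul_mem _ (this ▸ A.sub_mem w.2 u.2)
        rwa [smul_smul, inv_mul_cancel₀ (sub_ne_zero.2 hne), one_smul] at h2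
      subst hab
      simp only [add_right_inj] at h
      exact Prod.ext rfl (Subtype.ext h)
    have := Nat.card_le_card_of_injective _ hinj
    rw [Nat.card_prod, Nat.card_eq_fintype_card (α := F)] at this
    exact le_trans (Nat.mul_le_mul_right _ hq) this
  have hall : (Set.univ : Set V) ⊆ ((A : Set V) \ {0}) ∪ ((B : Set V) \ {0}) ∪ (C : Set V) := by
    intro x _
    by_cases hxC : x ∈ C
    · exact Or.inr hxC
    · have hx0 : x ≠ 0 := fun h => hxC (h ▸ C.zero_mem)
      by_cases hxA : x ∈ A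
      · exact Or.inl (Or.inl ⟨hxA, hx0⟩)
      · exact Or.inl (Or.inr ⟨not_not.1 fun hxB => hxC (hcon x hxA hxB), hx0⟩)
  have h1 := (Set.ncard_le_ncard hall (Set.toFinite _)).trans
    ((Set.ncard_union_le _ _).trans (Nat.add_le_add_right (Set.ncard_union_le _ _) _))
  rw [Set.ncard_univ] at h1
  have hA' : ((A : Set V) \ {0}).ncard + 1 = Nat.card A := by
    rw [Set.ncard_sdiff_singleton_add_one A.zero_mem (Set.toFinite _), ← Nat.card_coe_set_eq]; rfl
  have hB' : ((B : Set V) \ {0}).ncard + 1 = Nat.card B := by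
    rw [Set.ncard_sdiff_singleton_add_one B.zero_mem (Set.toFinite _), ← Nat.card_coe_set_eq]; rfl
  rw [show (C : Set V).ncard = Nat.card C from (Nat.card_coe_set_eq _).symm] at h1
  have := key A hA
  have := key B hB
  have := key C hC
  omega

/-- A proper invariant additive subgroup of a finite field is small. -/
theorem zsub_bound [Fintype F] (Z : AddSubgroup F) (hZ : Z ≠ ⊤) (M : Subgroup Fˣ)
    (hM : ∀ c ∈ M, ∀ z ∈ Z, (c : F) * z ∈ Z) (h1 : Z ≠ ⊥) :
    Nat.card Z * (Nat.card M + 1) ≤ Fintype.card F := by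
  classical
  obtain ⟨x, hx⟩ : ∃ x, x ∉ Z := by
    by_contra h
    push Not at h
    exact hZ (eq_top_iff.2 fun x _ => h x)
  obtain ⟨z0, hz0, hz0'⟩ : ∃ z, z ∈ Z ∧ z ≠ 0 := by
    by_contra h
    push Not at h
    exact h1 (eq_bot_iff.2 fun z hz => h z hz)
  let R : Set F := {r | ∀ z ∈ Z, r * z ∈ Z}
  have hR0 : (0 : F) ∈ R := fun z _ => by rw [zero_mul]; exact Z.zero_mem
  have hMR : Set.range (fun o : Option M => o.elim (0 : F) fun c => ((c : Fˣ) : F)) ⊆ R := by
    rintro _ ⟨o, rfl⟩
    cases o with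
    | none => exact hR0
    | some c => exact hM c c.2
  have hMcard : Nat.card M + 1 ≤ R.ncard := by
    refine le_trans (le_of_eq ?_) (Set.ncard_le_ncard hMR (Set.toFinite _))
    rw [← Nat.card_coe_set_eq, Nat.card_range_of_injective, Finite.card_option]
    rintro (_ | a) (_ | b) h
    · rfl
    · exact absurd h.symm b.1.ne_zero
    · exact absurd h a.1.ne_zero
    · exact congrArg some (Subtype.ext (Units.ext h))
  have hinj : Function.Injective (fun p : Z × R => (p.1 : F) + (p.2 : F) * x) := by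
    rintro ⟨a, r⟩ ⟨b, s⟩ h
    simp only at h
    have hrs : (r : F) = s := by
      by_contra hne
      apply hx
      have hd : (r : F) - s ≠ 0 := sub_ne_zero.2 hne
      have hdR : ∀ z ∈ Z, ((r : F) - s) * z ∈ Z := fun z hz => by
        rw [sub_mul]; exact Z.sub_mem (r.2 z hz) (s.2 z hz)
      have hdx : ((r : F) - s) * x ∈ Z := by
        have : ((r : F) - s) * x = (b : F) - a := by linear_combination h
        rw [this]; exact Z.sub_mem b.2 a.2
      have hinj' : Function.Injective (fun z : Z => (⟨((r : F) - s) * z, hdR z z.2⟩ : Z)) := fun u v e =>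
        Subtype.ext (mul_left_cancel₀ hd (congrArg Subtype.val e))
      obtain ⟨w, hw⟩ := (Finite.injective_iff_surjective.1 hinj') ⟨_, hdx⟩
      rw [← mul_left_cancel₀ hd (congrArg Subtype.val hw)]
      exact w.2
    rw [hrs] at h
    exact Prod.ext (Subtype.ext (add_right_cancel h)) (Subtype.ext hrs)
  have := Nat.card_le_card_of_injective _ hinj
  rw [Nat.card_prod, Nat.card_coe_set_eq, Nat.card_eq_fintype_card (α := F)] at this
  exact le_trans (Nat.mul_le_mul_left _ hMcard) this

end CfsgLib.SpMin
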