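import Mathlib
import Cfsg.Agent.Lib.SpMin.Basic

/-! The stabiliser of a point in `Sp_{2k+2}(q)` and its intersection with a subgroup. -/

set_option autoImplicit false
set_option maxHeartbeats 800000

namespace CfsgLib.SpMin

open Matrix
open CfsgLib.SympTransvection (tv transitive)
open CfsgLib.SympGen
open CfsgLib.SympSimple (ext_apply mulVec_ne_zero)

variable {F : Type*} [Field F] {k : ℕ}

local notation "Vl" => (Fin k ⊕ Fin k → F)
local notation "Vb" => (Fin (k + 1) ⊕ Fin (k + 1) → F)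
local notation "Gl" => Matrix.symplecticGroup (Fin k) F
local notation "Gb" => Matrix.symplecticGroup (Fin (k + 1)) F

/-! ### Coordinates -/

theorem B_sum {m : ℕ} (x y : Fin m ⊕ Fin m → F) :
    B x y = ∑ i, (x (Sum.inr i) * y (Sum.inl i) - x (Sum.inl i) * y (Sum.inr i)) := by
  simp [B, Matrix.J, Matrix.fromBlocks_mulVec, dotProduct, Fintype.sum_sum_type, Matrix.neg_mulVec,
    Finset.sum_sub_distrib]
  ring

/-- The small part of a vector. -/
def pr (x : Vb) : Vl := x ∘ Sum.map Fin.succ Fin.succ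

/-- The inclusion of the small space. -/
def inc : Vl →ₗ[F] Vb where
  toFun u := Sum.elim (Fin.cons 0 (u ∘ Sum.inl)) (Fin.cons 0 (u ∘ Sum.inr))
  map_add' u v := by
    funext i
    rcases i with i | i <;> refine Fin.cases ?_ (fun i => ?_) i <;> simp
  map_smul' c u := by
    funext i
    rcases i with i | i <;> refine Fin.cases ?_ (fun i => ?_) i <;> simp

/-- The point. -/
abbrev e0 : Vb := bas (Sum.inl 0)

/-- Its partner. -/
abbrev f0 : Vb := bas (Sum.inr 0)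

theorem inc_l (u : Vl) : inc u (Sum.inl 0) = 0 := rfl

theorem inc_r (u : Vl) : inc u (Sum.inr 0) = 0 := rfl

theorem pr_inc (u : Vl) : pr (inc u) = u := by
  funext i
  rcases i with i | i <;> simp [pr, inc]

theorem B_split (x y : Vb) :
    B x y = x (Sum.inr 0) * y (Sum.inl 0) - x (Sum.inl 0) * y (Sum.inr 0) + B (pr x) (pr y) := by
  rw [B_sum, B_sum, Fin.sum_univ_succ]
  rfl

theorem pr_bas (i : Fin (k + 1) ⊕ Fin (k + 1)) (hi : i = Sum.inl 0 ∨ i = Sum.inr 0) :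
    pr (bas (F := F) i) = 0 := by
  funext j
  rcases hi with rfl | rfl <;> rcases j with j | j <;> simp [pr, bas, Fin.succ_ne_zero]

theorem pr_e0 : pr (e0 : Vb) = 0 := pr_bas _ (Or.inl rfl)

theorem pr_f0 : pr (f0 : Vb) = 0 := pr_bas _ (Or.inr rfl)

theorem B_e0 (x : Vb) : B x e0 = x (Sum.inr 0) := by
  rw [B_split, pr_e0]; simp [B, bas]

theorem B_f0 (x : Vb) : B x f0 = -x (Sum.inl 0) := by
  rw [B_split, pr_f0]; simp [B, bas]

theorem e0_inc (u : Vl) : B (e0 : Vb) (inc u) = 0 := by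
  rw [B_swap, B_e0, inc_r, neg_zero]

theorem B_inc (u v : Vl) : B (inc u) (inc v) = B u v := by
  rw [B_split, inc_r, inc_l, inc_l, inc_r, pr_inc, pr_inc]; simp

theorem split_vec (x : Vb) : x = x (Sum.inl 0) • e0 + x (Sum.inr 0) • f0 + inc (pr x) := by
  funext i
  rcases i with i | i <;> refine Fin.cases ?_ (fun i => ?_) i <;>
    simp [bas, inc, pr, Pi.single_apply, Fin.succ_ne_zero]

theorem ext3 {x y : Vb} (h1 : x (Sum.inl 0) = y (Sum.inl 0)) (h2 : x (Sum.inr 0) = y (Sum.inr 0))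
    (h3 : pr x = pr y) : x = y := by
  rw [split_vec x, split_vec y, h1, h2, h3]

theorem e0_ne : (e0 : Vb) ≠ 0 := fun h => by simpa [bas] using congrFun h (Sum.inl 0)

theorem pr_add (x y : Vb) : pr (x + y) = pr x + pr y := rfl

theorem pr_smul (c : F) (x : Vb) : pr (c • x) = c • pr x := rfl

/-- An element from a linear map preserving the form. -/
noncomputable def ofLin {m : ℕ} (φ : (Fin m ⊕ Fin m → F) →ₗ[F] (Fin m ⊕ Fin m → F))
    (h : ∀ x y, B (φ x) (φ y) = B x y) : Matrix.symplecticGroup (Fin m) F :=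
  ⟨LinearMap.toMatrix' φ, SymplecticGroup.mem_iff'.mpr (Matrix.ext fun i j => by
    have h := h (Pi.single i 1) (Pi.single j 1)
    rw [← LinearMap.toMatrix'_mulVec φ (Pi.single i 1), ← LinearMap.toMatrix'_mulVec φ (Pi.single j 1)] at h
    simp only [B] at h
    rw [Matrix.mulVec_mulVec, Matrix.dotProduct_mulVec, ← Matrix.vecMul_transpose, Matrix.vecMul_vecMul,
      ← Matrix.dotProduct_mulVec, Matrix.mulVec_single_one, single_dotProduct, one_mul,
      Matrix.mulVec_single_one, single_dotProduct, one_mul] at h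
    rw [Matrix.mul_assoc]
    exact h)⟩

theorem ofLin_apply {m : ℕ} (φ : (Fin m ⊕ Fin m → F) →ₗ[F] (Fin m ⊕ Fin m → F))
    (h : ∀ x y, B (φ x) (φ y) = B x y) (x : Fin m ⊕ Fin m → F) : (ofLin φ h).1 *ᵥ x = φ x :=
  LinearMap.toMatrix'_mulVec φ x

/-- The linear map of a Levi element. -/
def embMap (c : Fˣ) (g : Gl) : Vb →ₗ[F] Vb where
  toFun x := Sum.elim (Fin.cons ((c : F) * x (Sum.inl 0)) ((g.1 *ᵥ pr x) ∘ Sum.inl))
    (Fin.cons (((c⁻¹ : Fˣ) : F) * x (Sum.inr 0)) ((g.1 *ᵥ pr x) ∘ Sum.inr))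
  map_add' x y := by
    funext i
    rcases i with i | i <;> refine Fin.cases ?_ (fun i => ?_) i <;>
      simp [pr_add, Matrix.mulVec_add, mul_add]
  map_smul' a x := by
    funext i
    rcases i with i | i <;> refine Fin.cases ?_ (fun i => ?_) i <;>
      simp [pr_smul, Matrix.mulVec_smul, mul_left_comm]

theorem embMap_pr (c : Fˣ) (g : Gl) (x : Vb) : pr (embMap c g x) = g.1 *ᵥ pr x := by
  funext i
  rcases i with i | i <;> simp [pr, embMap]

theorem embMap_B (c : Fˣ) (g : Gl) (x y : Vb) : B (embMap c g x) (embMap c g y) = B x y := by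
  rw [B_split, B_split x y, embMap_pr, embMap_pr, B_map]
  congr 1
  show ((c⁻¹ : Fˣ) : F) * x (Sum.inr 0) * ((c : F) * y (Sum.inl 0)) -
    (c : F) * x (Sum.inl 0) * (((c⁻¹ : Fˣ) : F) * y (Sum.inr 0)) = _
  rw [mul_mul_mul_comm, mul_mul_mul_comm (c : F)]
  simp

/-- The Levi element. -/
noncomputable def emb (c : Fˣ) (g : Gl) : Gb := ofLin (embMap c g) (embMap_B c g)

theorem emb_l (c : Fˣ) (g : Gl) (x : Vb) : ((emb c g).1 *ᵥ x) (Sum.inl 0) = (c : F) * x (Sum.inl 0) := by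
  rw [emb, ofLin_apply]; rfl

theorem emb_r (c : Fˣ) (g : Gl) (x : Vb) :
    ((emb c g).1 *ᵥ x) (Sum.inr 0) = ((c⁻¹ : Fˣ) : F) * x (Sum.inr 0) := by
  rw [emb, ofLin_apply]; rfl

theorem emb_pr (c : Fˣ) (g : Gl) (x : Vb) : pr ((emb c g).1 *ᵥ x) = g.1 *ᵥ pr x := by
  rw [emb, ofLin_apply, embMap_pr]

theorem emb_e0 (c : Fˣ) (g : Gl) : (emb c g).1 *ᵥ e0 = (c : F) • e0 := by
  refine ext3 ?_ ?_ ?_
  · rw [emb_l]; simp
  · rw [emb_r]; simp [bas]
  · rw [emb_pr, pr_smul, pr_e0]; simp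

theorem emb_inc (c : Fˣ) (g : Gl) (u : Vl) : (emb c g).1 *ᵥ inc u = inc (g.1 *ᵥ u) := by
  refine ext3 ?_ ?_ ?_
  · rw [emb_l, inc_l, inc_l, mul_zero]
  · rw [emb_r, inc_r, inc_r, mul_zero]
  · rw [emb_pr, pr_inc, pr_inc]

theorem emb_mul (c d : Fˣ) (g h : Gl) : emb c g * emb d h = emb (c * d) (g * h) := by
  apply ext_apply
  intro x
  rw [SympGen.mul_apply]
  refine ext3 ?_ ?_ ?_
  · simp only [emb_l, Units.val_mul]; ring
  · simp only [emb_r, _root_.mul_inv_rev, Units.val_mul]; ring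
  · rw [emb_pr, emb_pr, emb_pr, SympGen.mul_apply]

theorem emb_one : emb (1 : Fˣ) (1 : Gl) = 1 := by
  apply ext_apply
  intro x
  refine ext3 ?_ ?_ ?_
  · rw [emb_l, SympGen.one_apply]; simp
  · rw [emb_r, SympGen.one_apply]; simp
  · rw [emb_pr, SympGen.one_apply, SympGen.one_apply]

theorem emb_inv (c : Fˣ) (g : Gl) : (emb c g)⁻¹ = emb c⁻¹ g⁻¹ := by
  refine inv_eq_of_mul_eq_one_right ?_
  rw [emb_mul, mul_inv_cancel, mul_inv_cancel, emb_one]

theorem emb_tv (a : Vl) (c : F) : emb (1 : Fˣ) (tv a c) = tv (inc a) c := by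
  apply ext_apply
  intro x
  have hB : B x (inc a) = B (pr x) a := by rw [B_split, inc_l, inc_r, pr_inc]; simp
  rw [tv_apply, hB]
  refine ext3 ?_ ?_ ?_
  · rw [emb_l]; simp [inc_l]
  · rw [emb_r]; simp [inc_r]
  · rw [emb_pr, tv_apply, pr_add, pr_smul, pr_inc]

/-- The Siegel element of the point. -/
abbrev sg (u : Vl) (z : F) : Gb := qe e0 (inc u) z

theorem sg_mul (u u' : Vl) (z z' : F) : sg u z * sg u' z' = sg (u + u') (z + z' + B u' u) := by
  rw [sg, sg, sg, qe_mul (e0_inc u) (e0_inc u'), map_add, B_inc]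

theorem sg_zero (z : F) : sg (0 : Vl) z = tv e0 z := by
  rw [sg, map_zero, qe_zero_left]

theorem sg_inv (u : Vl) (z : F) : (sg u z)⁻¹ = sg (-u) (-z) := by
  rw [sg, sg, qe_inv (e0_inc u), map_neg]

theorem sg_e0 (u : Vl) (z : F) : (sg u z).1 *ᵥ e0 = e0 := by
  rw [sg, qe_apply (e0_inc u), e0_inc, B_self]
  simp

theorem sg_f0 (u : Vl) (z : F) : (sg u z).1 *ᵥ f0 = f0 + inc u + z • e0 := by
  have h1 : B (f0 : Vb) (inc u) = 0 := by rw [B_swap, B_f0, inc_l]; simp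
  have h2 : B (f0 : Vb) e0 = 1 := by rw [B_e0]; simp [bas]
  rw [sg, qe_apply (e0_inc u), h1, h2]
  simp

theorem emb_conj_sg (c : Fˣ) (g : Gl) (u : Vl) (z : F) :
    emb c g * sg u z * (emb c g)⁻¹ = sg ((c : F) • (g.1 *ᵥ u)) ((c : F) ^ 2 * z) := by
  rw [sg, conj_qe, emb_e0, emb_inc, qe_smul_left (e0_inc _), sg, map_smul]

theorem emb_comm_tv (g : Gl) (z : F) : Commute (emb (1 : Fˣ) g) (tv (e0 : Vb) z) := by
  have h := emb_conj_sg (1 : Fˣ) g 0 z
  rw [sg_zero, Units.val_one, one_smul, Matrix.mulVec_zero, sg_zero, one_pow, one_mul,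
    mul_inv_eq_iff_eq_mul] at h
  exact h

theorem sg_comm_tv (u : Vl) (z w : F) : Commute (sg u z) (tv (e0 : Vb) w) := by
  show _ * _ = _ * _
  rw [← sg_zero, sg_mul, sg_mul, add_zero, zero_add, add_comm w z]
  simp [B]

/-! ### The stabiliser of the point -/

/-- The stabiliser of the point. -/
def Pt : Subgroup Gb where
  carrier := {g | ∃ c : F, g.1 *ᵥ e0 = c • e0}
  mul_mem' := by
    rintro a b ⟨c, hc⟩ ⟨d, hd⟩
    exact ⟨d * c, by rw [SympGen.mul_apply, hd, Matrix.mulVec_smul, hc, smul_smul]⟩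
  one_mem' := ⟨1, by rw [SympGen.one_apply, one_smul]⟩
  inv_mem' := by
    rintro a ⟨c, hc⟩
    have hc0 : c ≠ 0 := fun h => mulVec_ne_zero a e0_ne (by rw [hc, h, zero_smul])
    refine ⟨c⁻¹, ?_⟩
    have := congrArg (fun x => (a⁻¹).1 *ᵥ x) hc
    simp only [← SympGen.mul_apply, inv_mul_cancel, SympGen.one_apply, Matrix.mulVec_smul] at this
    conv_rhs => rw [this]
    rw [smul_smul, inv_mul_cancel₀ hc0, one_smul]

theorem emb_mem (c : Fˣ) (g : Gl) : emb c g ∈ Pt := ⟨c, emb_e0 c g⟩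

theorem sg_mem (u : Vl) (z : F) : sg u z ∈ (Pt : Subgroup Gb) := ⟨1, by rw [sg_e0, one_smul]⟩

theorem Pt_r {g : Gb} (hg : g ∈ Pt) (x : Vb) (hx : x (Sum.inr 0) = 0) : (g.1 *ᵥ x) (Sum.inr 0) = 0 := by
  obtain ⟨c, hc⟩ := hg
  have hc0 : c ≠ 0 := fun h => mulVec_ne_zero g e0_ne (by rw [hc, h, zero_smul])
  have h := B_map g x e0
  rw [hc, B_smul_right, B_e0, B_e0, hx] at h
  exact (mul_eq_zero.1 h).resolve_left hc0

theorem coef_ne {g : Gb} (hg : g ∈ Pt) : (g.1 *ᵥ e0) (Sum.inl 0) ≠ 0 := by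
  obtain ⟨c, hc⟩ := hg
  rw [hc]
  simp only [Pi.smul_apply, bas, Pi.single_eq_same, smul_eq_mul, mul_one]
  exact fun h => mulVec_ne_zero g e0_ne (by rw [hc, h, zero_smul])

theorem Pt_e0 {g : Gb} (hg : g ∈ Pt) : g.1 *ᵥ e0 = (g.1 *ᵥ e0) (Sum.inl 0) • e0 := by
  obtain ⟨c, hc⟩ := hg
  rw [hc]; simp

theorem lin_B {g : Gb} (hg : g ∈ Pt) (x y : Vl) :
    B (pr (g.1 *ᵥ inc x)) (pr (g.1 *ᵥ inc y)) = B x y := by
  have h := B_split (g.1 *ᵥ inc x) (g.1 *ᵥ inc y)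
  rw [B_map, B_inc, Pt_r hg _ (inc_r x), Pt_r hg _ (inc_r y), zero_mul, mul_zero, sub_zero, zero_add] at h
  exact h.symm

/-- The action on the small space. -/
noncomputable def small (g : (Pt : Subgroup Gb)) : Gl :=
  ofLin ((LinearMap.funLeft F F (Sum.map Fin.succ Fin.succ)) ∘ₗ (Matrix.mulVecLin g.1.1) ∘ₗ inc)
    (lin_B g.2)

theorem small_apply (g : (Pt : Subgroup Gb)) (u : Vl) : (small g).1 *ᵥ u = pr (g.1.1 *ᵥ inc u) := by
  exact ofLin_apply _ _ u

/-- The Levi quotient of the stabiliser of the point. -/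
noncomputable def rho : (Pt : Subgroup Gb) →* Fˣ × Gl where
  toFun g := (Units.mk0 _ (coef_ne g.2), small g)
  map_one' := by
    refine Prod.ext (Units.ext ?_) (ext_apply fun u => ?_)
    · show ((1 : Gb).1 *ᵥ e0) (Sum.inl 0) = 1
      rw [SympGen.one_apply]; simp
    · rw [small_apply]
      show pr ((1 : Gb).1 *ᵥ inc u) = (1 : Gl).1 *ᵥ u
      rw [SympGen.one_apply, SympGen.one_apply, pr_inc]
  map_mul' g h := by
    refine Prod.ext (Units.ext ?_) (ext_apply fun u => ?_)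
    · show ((g.1 * h.1).1 *ᵥ e0) (Sum.inl 0) = (g.1.1 *ᵥ e0) (Sum.inl 0) * (h.1.1 *ᵥ e0) (Sum.inl 0)
      rw [SympGen.mul_apply, Pt_e0 h.2, Matrix.mulVec_smul, Pi.smul_apply, smul_eq_mul,
        mul_comm]
      congr 1
      simp
    · show (small (g * h)).1 *ᵥ u = (small g * small h).1 *ᵥ u
      rw [SympGen.mul_apply, small_apply, small_apply, small_apply]
      show pr ((g.1 * h.1).1 *ᵥ inc u) = _
      conv_lhs => rw [SympGen.mul_apply, split_vec (h.1.1 *ᵥ inc u)]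
      rw [Pt_r h.2 _ (inc_r u), zero_smul, add_zero, Matrix.mulVec_add, Matrix.mulVec_smul, Pt_e0 g.2, pr_add,
        pr_smul, pr_smul, pr_e0, smul_zero, smul_zero, zero_add]

theorem rho_emb_sg (c : Fˣ) (g : Gl) (u : Vl) (z : F) :
    rho ⟨emb c g * sg u z, mul_mem (emb_mem c g) (sg_mem u z)⟩ = (c, g) := by
  refine Prod.ext (Units.ext ?_) (ext_apply fun x => ?_)
  · show ((emb c g * sg u z).1 *ᵥ e0) (Sum.inl 0) = (c : F)
    rw [SympGen.mul_apply, sg_e0, emb_l]; simp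
  · show (small _).1 *ᵥ x = g.1 *ᵥ x
    rw [small_apply]
    show pr ((emb c g * sg u z).1 *ᵥ inc x) = _
    have h1 : B (inc x) (e0 : Vb) = 0 := by rw [B_e0, inc_r]
    rw [SympGen.mul_apply, emb_pr, sg, qe_apply (e0_inc u), h1]
    simp [pr_add, pr_smul, pr_e0, pr_inc]

theorem decomp {g : Gb} (hg : g ∈ Pt) :
    ∃ u z, g = emb (rho ⟨g, hg⟩).1 (rho ⟨g, hg⟩).2 * sg u z := by
  set p := rho ⟨g, hg⟩ with hp
  set h : Gb := (emb p.1 p.2)⁻¹ * g with hh
  have hhP : h ∈ Pt := mul_mem (inv_mem (emb_mem _ _)) hg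
  have hr : rho ⟨h, hhP⟩ = 1 := by
    have e : (⟨h, hhP⟩ : (Pt : Subgroup Gb)) = (⟨emb p.1 p.2 * sg 0 0, mul_mem (emb_mem _ _) (sg_mem _ _)⟩)⁻¹ * ⟨g, hg⟩ := by
      apply Subtype.ext
      show h = (emb p.1 p.2 * sg 0 0)⁻¹ * g
      rw [sg_zero, SympSimple.tv_zero, mul_one]
    rw [e, map_mul, map_inv, rho_emb_sg, ← hp, Prod.mk.eta, inv_mul_cancel]
  have he : h.1 *ᵥ e0 = e0 := by
    rw [Pt_e0 hhP]
    have : (h.1 *ᵥ e0) (Sum.inl 0) = 1 := congrArg (fun x : Fˣ × Gl => (x.1 : F)) hr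
    rw [this, one_smul]
  have hsm : ∀ x, pr (h.1 *ᵥ inc x) = x := fun x => by
    have := congrArg (fun y : Fˣ × Gl => y.2.1 *ᵥ x) hr
    simp only [Prod.snd_one] at this
    rw [SympGen.one_apply] at this
    exact (small_apply ⟨h, hhP⟩ x).symm.trans this
  refine ⟨pr (h.1 *ᵥ f0), (h.1 *ᵥ f0) (Sum.inl 0), ?_⟩
  rw [← inv_mul_eq_iff_eq_mul]
  show h = _
  have hb : (h.1 *ᵥ f0) (Sum.inr 0) = 1 := by
    have := B_map h f0 e0
    rw [he, B_e0, B_e0] at this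
    simpa [bas] using this
  have hf : h.1 *ᵥ f0 = (sg (pr (h.1 *ᵥ f0)) ((h.1 *ᵥ f0) (Sum.inl 0))).1 *ᵥ f0 := by
    rw [sg_f0]
    conv_lhs => rw [split_vec (h.1 *ᵥ f0), hb, one_smul]
    abel
  apply ext_apply
  intro x
  rw [split_vec x, Matrix.mulVec_add, Matrix.mulVec_add, Matrix.mulVec_smul, Matrix.mulVec_smul,
    Matrix.mulVec_add, Matrix.mulVec_add, Matrix.mulVec_smul, Matrix.mulVec_smul, he, sg_e0, ← hf]
  congr 1
  -- the small space
  have h0 := B_map h (inc (pr x)) f0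
  rw [B_split, Pt_r hhP _ (inc_r _), hb, hsm, zero_mul, zero_sub, mul_one, B_f0, inc_l, neg_zero] at h0
  conv_lhs => rw [split_vec (h.1 *ᵥ inc (pr x)), Pt_r hhP _ (inc_r _), hsm]
  rw [sg, qe_apply (e0_inc _), B_inc, B_e0, inc_r, mul_zero, zero_smul, zero_smul, add_zero, add_zero,
    neg_add_eq_zero.1 h0]
  simp
  abel

theorem param_inj {p p' : Fˣ × Gl} {u u' : Vl} {z z' : F} (h : emb p.1 p.2 * sg u z = emb p'.1 p'.2 * sg u' z') :
    p = p' ∧ u = u' ∧ z = z' := by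
  have hp : p = p' := by
    exact (rho_emb_sg p.1 p.2 u z).symm.trans ((congrArg rho (Subtype.ext h)).trans (rho_emb_sg p'.1 p'.2 u' z'))
  subst hp
  have h2 := congrArg (fun g : Gb => g.1 *ᵥ f0) (mul_left_cancel h)
  simp only [sg_f0] at h2
  refine ⟨rfl, ?_, ?_⟩
  · simpa [pr_add, pr_smul, pr_e0, pr_f0, pr_inc] using congrArg pr h2
  · simpa [inc_l, bas] using congrFun h2 (Sum.inl 0)

variable [Fintype F]

theorem card_Pt : Nat.card (Pt : Subgroup Gb) =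
    (Fintype.card F - 1) * Nat.card Gl * (Fintype.card F ^ (2 * k) * Fintype.card F) := by
  classical
  let f : (Fˣ × Gl) × (Vl × F) → (Pt : Subgroup Gb) := fun x =>
    ⟨emb x.1.1 x.1.2 * sg x.2.1 x.2.2, mul_mem (emb_mem _ _) (sg_mem _ _)⟩
  have hf : Function.Bijective f := by
    refine ⟨fun x y h => ?_, fun g => ?_⟩
    · obtain ⟨h1, h2, h3⟩ := param_inj (congrArg Subtype.val h)
      exact Prod.ext h1 (Prod.ext h2 h3)
    · obtain ⟨u, z, h⟩ := decomp g.2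
      exact ⟨(rho ⟨g.1, g.2⟩, (u, z)), Subtype.ext h.symm⟩
  rw [← Nat.card_eq_of_bijective f hf, Nat.card_prod, Nat.card_prod, Nat.card_prod, Nat.card_units,
    Nat.card_eq_fintype_card (α := F), Nat.card_eq_fintype_card (α := Vl)]
  simp [two_mul, Fintype.card_units]

/-! ### A subgroup at the point -/

variable (H : Subgroup (Matrix.symplecticGroup (Fin (k + 1)) F))

/-- The Levi image of `H`. -/
noncomputable def Rg : Subgroup (Fˣ × Gl) := (H.subgroupOf Pt).map rho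

/-- The scalars of the Levi image. -/
noncomputable def Sc : Subgroup Fˣ := (Rg H).map (MonoidHom.fst Fˣ Gl)

/-- The kernel part of the Levi image. -/
noncomputable def K0 : Subgroup Gl := (Rg H).comap (MonoidHom.inr Fˣ Gl)

omit [Fintype F] in
theorem mem_Rg {p : Fˣ × Gl} : p ∈ Rg H ↔ ∃ u z, emb p.1 p.2 * sg u z ∈ H := by
  constructor
  · rintro ⟨⟨g, hg⟩, hgH, rfl⟩
    obtain ⟨u, z, h⟩ := decomp hg
    exact ⟨u, z, h ▸ hgH⟩
  · rintro ⟨u, z, h⟩
    exact ⟨⟨_, mul_mem (emb_mem p.1 p.2) (sg_mem u z)⟩, h, rho_emb_sg _ _ _ _⟩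

omit [Fintype F] in
theorem mem_K0 {g : Gl} : g ∈ K0 H ↔ ∃ u z, emb 1 g * sg u z ∈ H := mem_Rg H

/-- The translations of `H` at the point. -/
def Wh : AddSubgroup Vl where
  carrier := {u | ∃ z, sg u z ∈ H}
  zero_mem' := ⟨0, by rw [sg_zero, SympSimple.tv_zero]; exact one_mem H⟩
  add_mem' := by
    rintro u v ⟨z, hz⟩ ⟨w, hw⟩
    exact ⟨_, sg_mul u v z w ▸ mul_mem hz hw⟩
  neg_mem' := by
    rintro u ⟨z, hz⟩
    exact ⟨-z, sg_inv u z ▸ inv_mem hz⟩

/-- The root elements of `H` at the point. -/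
def Zh : AddSubgroup F where
  carrier := {z | tv (e0 : Vb) z ∈ H}
  zero_mem' := by
    show tv (e0 : Vb) (0 : F) ∈ H
    rw [SympSimple.tv_zero]; exact one_mem H
  add_mem' := fun {a b} ha hb => by
    show tv (e0 : Vb) (a + b) ∈ H
    rw [← tv_add]; exact mul_mem ha hb
  neg_mem' := fun {a} ha => by
    show tv (e0 : Vb) (-a) ∈ H
    rw [← SympSimple.tv_inv]; exact inv_mem ha

omit [Fintype F] in
theorem zh_ne_top (hR : NoRt H) : Zh H ≠ ⊤ := fun e =>
  hR e0 e0_ne fun c => (show c ∈ Zh H from e ▸ AddSubgroup.mem_top c)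

theorem card_inf_Pt : Nat.card (H.subgroupOf (Pt : Subgroup Gb)) =
    Nat.card (Sc H) * Nat.card (K0 H) * (Nat.card (Wh H) * Nat.card (Zh H)) := by
  classical
  set HP := H.subgroupOf (Pt : Subgroup Gb)
  have h1 : Nat.card (Rg H) = Nat.card (Sc H) * Nat.card (K0 H) := by
    let f : Rg H →* Fˣ := (MonoidHom.fst Fˣ Gl).comp (Rg H).subtype
    have hr : f.range = Sc H := by rw [MonoidHom.range_comp, Subgroup.range_subtype]; rfl
    have hk : Nat.card f.ker = Nat.card (K0 H) := Nat.card_congr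
      { toFun := fun x => ⟨x.1.1.2, by
          have h : ((1 : Fˣ), x.1.1.2) = x.1.1 := Prod.ext (MonoidHom.mem_ker.1 x.2).symm rfl
          show ((1 : Fˣ), x.1.1.2) ∈ Rg H
          rw [h]; exact x.1.2⟩
        invFun := fun g => ⟨⟨(1, g.1), g.2⟩, MonoidHom.mem_ker.2 rfl⟩
        left_inv := fun x => Subtype.ext (Subtype.ext (Prod.ext (MonoidHom.mem_ker.1 x.2).symm rfl))
        right_inv := fun g => rfl }
    rw [← f.ker.card_mul_index, Subgroup.index_ker, hr, hk, mul_comm]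
  have h2 : Nat.card HP = Nat.card (Rg H) * (Nat.card (Wh H) * Nat.card (Zh H)) := by
    let f : HP →* Fˣ × Gl := rho.comp HP.subtype
    have hr : f.range = Rg H := by rw [MonoidHom.range_comp, Subgroup.range_subtype]; rfl
    let zc : Wh H → F := fun u => u.2.choose
    have hzc : ∀ u : Wh H, sg (u : Vl) (zc u) ∈ H := fun u => u.2.choose_spec
    let φ : Wh H × Zh H → f.ker := fun x =>
      ⟨⟨⟨sg (x.1 : Vl) (zc x.1) * tv e0 (x.2 : F), mul_mem (sg_mem _ _) (by rw [← sg_zero]; exact sg_mem _ _)⟩,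
        show sg (x.1 : Vl) (zc x.1) * tv e0 (x.2 : F) ∈ H from mul_mem (hzc x.1) x.2.2⟩, by
        rw [MonoidHom.mem_ker]
        show rho _ = 1
        have e := rho_emb_sg (1 : Fˣ) (1 : Gl) (x.1 : Vl) (zc x.1 + x.2)
        rw [Prod.mk_one_one] at e
        rw [← e]
        congr 1
        apply Subtype.ext
        show sg (x.1 : Vl) (zc x.1) * tv e0 (x.2 : F) =
          emb (1 : Fˣ) (1 : Gl) * sg (x.1 : Vl) (zc x.1 + x.2)
        rw [emb_one, one_mul, ← sg_zero, sg_mul, add_zero]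
        simp [B]⟩
    have hφ : Function.Bijective φ := by
      refine ⟨fun x y h => ?_, fun g => ?_⟩
      · have h' : sg (x.1 : Vl) (zc x.1) * tv e0 (x.2 : F) = sg (y.1 : Vl) (zc y.1) * tv e0 (y.2 : F) :=
          congrArg (fun g : f.ker => g.1.1.1) h
        rw [← sg_zero, ← sg_zero, sg_mul, sg_mul] at h'
        have h'' := param_inj (p := (1, 1)) (p' := (1, 1)) (congrArg (fun g => emb (1 : Fˣ) (1 : Gl) * g) h')
        have hu : x.1 = y.1 := Subtype.ext (by simpa using h''.2.1)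
        rw [hu] at h''
        exact Prod.ext hu (Subtype.ext (by simpa [B] using h''.2.2))
      · obtain ⟨⟨⟨g, hgP⟩, hgH⟩, hgk⟩ := g
        obtain ⟨u, z, hg⟩ := decomp hgP
        have hone : rho ⟨g, hgP⟩ = 1 := MonoidHom.mem_ker.1 hgk
        rw [hone, Prod.fst_one, Prod.snd_one, emb_one, one_mul] at hg
        have huW : u ∈ Wh H := ⟨z, hg ▸ hgH⟩
        have hz : z - zc ⟨u, huW⟩ ∈ Zh H := by
          have hm : sg u z * (sg u (zc ⟨u, huW⟩))⁻¹ ∈ H := mul_mem (hg ▸ hgH) (inv_mem (hzc ⟨u, huW⟩))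
          rw [sg_inv, sg_mul, add_neg_cancel, sg_zero] at hm
          show tv (e0 : Vb) _ ∈ H
          convert hm using 2
          rw [← neg_one_smul F u, B_smul_left, B_self, mul_zero, add_zero, sub_eq_add_neg]
        refine ⟨(⟨u, huW⟩, ⟨_, hz⟩), Subtype.ext (Subtype.ext (Subtype.ext ?_))⟩
        show sg u (zc ⟨u, huW⟩) * tv e0 (z - zc ⟨u, huW⟩) = g
        rw [hg, ← sg_zero, sg_mul, add_zero]
        congr 1
        simp [B]
    rw [← f.ker.card_mul_index, Subgroup.index_ker, hr, ← Nat.card_eq_of_bijective φ hφ, Nat.card_prod, mul_comm]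
  rw [← h1]
  exact h2

theorem count_le : Nat.card (Pt : Subgroup Gb) ≤
    H.index * (Nat.card (Sc H) * Nat.card (K0 H) * (Nat.card (Wh H) * Nat.card (Zh H))) := by
  set HP := H.subgroupOf (Pt : Subgroup Gb)
  rw [← card_inf_Pt H, ← HP.card_mul_index, mul_comm]
  refine Nat.mul_le_mul_right _ ?_
  have h := Subgroup.relIndex_le_of_le_right (H := H) (le_top : (Pt : Subgroup Gb) ≤ ⊤)
    (by rw [Subgroup.relIndex_top_right]; exact Subgroup.index_ne_zero_of_finite)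
  rwa [Subgroup.relIndex_top_right] at h

/-- The basic inequality. -/
theorem main_ineq : (Sc H).index * (K0 H).index * (Fintype.card F ^ (2 * k) * Fintype.card F) ≤
    H.index * (Nat.card (Wh H) * Nat.card (Zh H)) := by
  have h := count_le H
  rw [card_Pt, ← Nat.card_eq_fintype_card (α := F), ← Nat.card_units, ← (Sc H).card_mul_index,
    ← (K0 H).card_mul_index] at h
  suffices hs : Nat.card (Sc H) * Nat.card (K0 H) *
      ((Sc H).index * (K0 H).index * (Fintype.card F ^ (2 * k) * Fintype.card F)) ≤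
      Nat.card (Sc H) * Nat.card (K0 H) * (H.index * (Nat.card (Wh H) * Nat.card (Zh H))) from
    Nat.le_of_mul_le_mul_left hs (Nat.mul_pos (Nat.card_pos (α := Sc H)) (Nat.card_pos (α := K0 H)))
  rw [← Nat.card_eq_fintype_card (α := F)]
  calc _ = _ := by ring
    _ ≤ _ := h
    _ = _ := by ring

variable {H}

omit [Fintype F] in
theorem act_wh {p : Fˣ × Gl} (hp : p ∈ Rg H) {u : Vl} (hu : u ∈ Wh H) : (p.1 : F) • (p.2.1 *ᵥ u) ∈ Wh H := by
  obtain ⟨u0, z0, h⟩ := (mem_Rg H).1 hp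
  obtain ⟨z, hz⟩ := hu
  have h2 := mul_mem (mul_mem h hz) (inv_mem h)
  rw [show emb p.1 p.2 * sg u0 z0 * sg u z * (emb p.1 p.2 * sg u0 z0)⁻¹ =
    emb p.1 p.2 * (sg u0 z0 * sg u z * (sg u0 z0)⁻¹) * (emb p.1 p.2)⁻¹ by group,
    sg_inv, sg_mul, sg_mul, show u0 + u + -u0 = u by abel, emb_conj_sg] at h2
  exact ⟨_, h2⟩

omit [Fintype F] in
theorem act_zh {p : Fˣ × Gl} (hp : p ∈ Rg H) {z : F} (hz : z ∈ Zh H) : (p.1 : F) ^ 2 * z ∈ Zh H := by
  obtain ⟨u0, z0, h⟩ := (mem_Rg H).1 hp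
  have h2 := mul_mem (mul_mem h (show tv (e0 : Vb) z ∈ H from hz)) (inv_mem h)
  rw [show emb p.1 p.2 * sg u0 z0 * tv e0 z * (emb p.1 p.2 * sg u0 z0)⁻¹ =
    emb p.1 p.2 * (sg u0 z0 * tv e0 z * (sg u0 z0)⁻¹) * (emb p.1 p.2)⁻¹ by group,
    (sg_comm_tv u0 z0 z).eq, mul_inv_cancel_right, ← sg_zero, emb_conj_sg, Matrix.mulVec_zero, smul_zero,
    sg_zero] at h2
  exact h2

omit [Fintype F] in
theorem bracket_zh {u v : Vl} (hu : u ∈ Wh H) (hv : v ∈ Wh H) : 2 * B u v ∈ Zh H := by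
  obtain ⟨z, hz⟩ := hu
  obtain ⟨w, hw⟩ := hv
  have h := mul_mem (mul_mem hw hz) (inv_mem (mul_mem hz hw))
  rw [sg_mul, sg_mul, sg_inv, sg_mul, add_comm v u, add_neg_cancel, sg_zero] at h
  show tv (e0 : Vb) _ ∈ H
  convert h using 2
  rw [← neg_one_smul F (u + v), B_smul_left, B_self, mul_zero, add_zero, B_swap v u]
  ring

omit [Fintype F] in
/-- Splitting off the Levi image through a scalar element. -/
theorem split_root [Finite F] (hR : NoRt H) {lam : Fˣ} {eps : Gl} {e : F} (he : ∀ v, eps.1 *ᵥ v = e • v)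
    (hne : (lam : F) * e ≠ 1) (hmem : (lam, eps) ∈ Rg H) {a : Vl} (ha : a ≠ 0)
    (hroot : ∀ c, tv a c ∈ ⁅K0 H, K0 H⁆) : False := by
  obtain ⟨u0, z0, hx⟩ := (mem_Rg H).1 hmem
  have he0 : e ≠ 0 := fun h => mulVec_ne_zero eps ha (by rw [he, h, zero_smul])
  set r : F := ((lam : F) * e)⁻¹ with hr
  have hr1 : 1 - r ≠ 0 := sub_ne_zero.2 fun h => hne (by rw [← inv_inv ((lam : F) * e), ← hr, ← h, inv_one])
  let p : Gb := sg ((1 - r)⁻¹ • u0) 0
  let H' : Subgroup Gb := cj p⁻¹ H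
  -- the scalar element becomes a Levi element up to the centre
  obtain ⟨z', ht⟩ : ∃ z', emb lam eps * tv e0 z' ∈ H' := by
    have hinv : ∀ v, (eps⁻¹).1 *ᵥ v = e⁻¹ • v := fun v => by
      have := he ((eps⁻¹).1 *ᵥ v)
      rw [← SympGen.mul_apply, mul_inv_cancel, SympGen.one_apply] at this
      conv_rhs => rw [this]
      rw [smul_smul, inv_mul_cancel₀ he0, one_smul]
    have h1 : p * (emb lam eps * sg u0 z0) * p⁻¹ =
        emb lam eps * ((emb lam⁻¹ eps⁻¹ * p * (emb lam⁻¹ eps⁻¹)⁻¹) * sg u0 z0 * p⁻¹) := by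
      have : emb lam⁻¹ eps⁻¹ = (emb lam eps)⁻¹ := (emb_inv lam eps).symm
      rw [this]
      group
    simp only [p, emb_conj_sg, hinv, sg_inv, sg_mul, smul_smul] at h1
    have hu : (((lam⁻¹ : Fˣ) : F) * (e⁻¹ * (1 - r)⁻¹)) • u0 + u0 + -((1 - r)⁻¹ • u0) = 0 := by
      have e1 : ((lam⁻¹ : Fˣ) : F) * (e⁻¹ * (1 - r)⁻¹) = r * (1 - r)⁻¹ := by
        rw [hr, mul_inv, Units.val_inv_eq_inv_val]; ring
      have e2 : r * (1 - r)⁻¹ + 1 + -(1 - r)⁻¹ = 0 := by
        linear_combination -(mul_inv_cancel₀ hr1)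
      rw [e1, ← neg_smul]
      calc _ = (r * (1 - r)⁻¹ + 1 + -(1 - r)⁻¹) • u0 := by module
        _ = 0 := by rw [e2, zero_smul]
    rw [hu, sg_zero] at h1
    obtain ⟨Z, hZ⟩ : ∃ Z, p * (emb lam eps * sg u0 z0) * p⁻¹ = emb lam eps * tv e0 Z := by
      simp only [p, sg_inv]
      exact ⟨_, h1⟩
    refine ⟨Z, ?_⟩
    rw [mem_cj, ← hZ]
    simpa [mul_assoc] using hx
  have hmem' : (lam, eps) ∈ Rg H' := (mem_Rg H').2 ⟨0, z', by rwa [sg_zero]⟩
  have hW : ∀ w ∈ Wh H', ((lam : F) * e - 1) • w ∈ Wh H' := fun w hw => by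
    have := act_wh hmem' hw
    rw [he, smul_smul] at this
    rw [sub_smul, one_smul]
    exact sub_mem this hw
  have hsurj : ∀ u, ((lam : F) * e - 1) • u ∈ Wh H' → u ∈ Wh H' := fun u hu => by
    have hinj : Function.Injective (fun w : Wh H' => (⟨_, hW w w.2⟩ : Wh H')) := fun v w h =>
      Subtype.ext (smul_right_injective Vl (sub_ne_zero.2 hne) (congrArg Subtype.val h))
    obtain ⟨w, hw⟩ := (Finite.injective_iff_surjective.1 hinj) ⟨_, hu⟩
    rw [← smul_right_injective Vl (sub_ne_zero.2 hne) (congrArg Subtype.val hw)]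
    exact w.2
  have hK : ∀ g ∈ K0 H, ∃ z, emb 1 g * tv e0 z ∈ H' := by
    intro g hg
    obtain ⟨u1, z1, hg1⟩ := (mem_K0 H).1 hg
    obtain ⟨u, z, hgz⟩ : ∃ u z, emb 1 g * sg u z ∈ H' := by
      refine (mem_K0 H').1 ?_
      have hP : p * (emb 1 g * sg u1 z1) * p⁻¹ ∈ (Pt : Subgroup Gb) :=
        mul_mem (mul_mem (sg_mem _ _) (mul_mem (emb_mem _ _) (sg_mem _ _))) (inv_mem (sg_mem _ _))
      refine ⟨⟨_, hP⟩, ?_, ?_⟩
      · show p * (emb 1 g * sg u1 z1) * p⁻¹ ∈ H'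
        rw [mem_cj]
        simpa [mul_assoc] using hg1
      · have hp1 : rho ⟨p, sg_mem _ _⟩ = 1 := by
          have e := rho_emb_sg (1 : Fˣ) (1 : Gl) ((1 - r)⁻¹ • u0) 0
          rw [Prod.mk_one_one] at e
          rw [← e]; congr 1; apply Subtype.ext
          show p = emb (1 : Fˣ) (1 : Gl) * sg ((1 - r)⁻¹ • u0) 0
          rw [emb_one, one_mul]
        show rho ⟨_, hP⟩ = (1, g)
        rw [show (⟨_, hP⟩ : (Pt : Subgroup Gb)) = ⟨p, sg_mem _ _⟩ *
          ⟨_, mul_mem (emb_mem 1 g) (sg_mem u1 z1)⟩ * ⟨p, sg_mem _ _⟩⁻¹ from rfl, map_mul, map_mul, map_inv,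
          hp1, rho_emb_sg]
        group
    have h2 := mul_mem (inv_mem hgz) (mul_mem (mul_mem ht hgz) (inv_mem ht))
    have e1 : emb lam eps * emb 1 g = emb 1 g * emb lam eps := by
      rw [emb_mul, emb_mul, one_mul, mul_one]
      congr 1
      exact ext_apply fun v => by rw [SympGen.mul_apply, SympGen.mul_apply, he, he, Matrix.mulVec_smul]
    have e2 : emb lam eps * tv e0 z' * (emb 1 g * sg u z) * (emb lam eps * tv e0 z')⁻¹ =
        emb 1 g * sg (((lam : F) * e) • u) ((lam : F) ^ 2 * z) := by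
      have c1 : Commute (tv (e0 : Vb) z') (emb 1 g * sg u z) :=
        ((emb_comm_tv g z').symm).mul_right (sg_comm_tv u z z').symm
      calc _ = emb lam eps * (tv e0 z' * (emb 1 g * sg u z)) * (tv e0 z')⁻¹ * (emb lam eps)⁻¹ := by group
        _ = emb lam eps * emb 1 g * sg u z * (emb lam eps)⁻¹ := by rw [c1.eq]; group
        _ = emb 1 g * (emb lam eps * sg u z * (emb lam eps)⁻¹) := by rw [e1]; group
        _ = _ := by rw [emb_conj_sg, he, smul_smul]
    rw [e2, _root_.mul_inv_rev, mul_assoc, inv_mul_cancel_left, sg_inv, sg_mul] at h2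
    have hu : u ∈ Wh H' := hsurj u ⟨_, by
      convert h2 using 1
      rw [sub_smul, one_smul, neg_add_eq_sub]⟩
    obtain ⟨z2, hz2⟩ := hu
    refine ⟨z + -z2 + B (-u) u, ?_⟩
    have h3 := mul_mem hgz (inv_mem hz2)
    rwa [mul_assoc, sg_inv, sg_mul, add_neg_cancel, sg_zero] at h3
  have hcomm : ⁅K0 H, K0 H⁆ ≤ (H'.comap (MonoidHom.mk' (fun g : Gl => emb (1 : Fˣ) g) fun g h => by
      show emb 1 (g * h) = emb 1 g * emb 1 h
      rw [emb_mul, one_mul])) := by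
    rw [Subgroup.commutator_le]
    intro g hg h hh
    obtain ⟨a, ha⟩ := hK g hg
    obtain ⟨b, hb⟩ := hK h hh
    have h4 := mul_mem (mul_mem (mul_mem ha hb) (inv_mem ha)) (inv_mem hb)
    show emb 1 (g * h * g⁻¹ * h⁻¹) ∈ H'
    convert h4 using 1
    rw [show emb 1 (g * h * g⁻¹ * h⁻¹) = emb 1 g * emb 1 h * (emb 1 g)⁻¹ * (emb 1 h)⁻¹ by
      rw [emb_inv, emb_inv, inv_one, emb_mul, emb_mul, emb_mul]; simp]
    have ca : ∀ x, Commute (tv (e0 : Vb) a) (emb 1 x) := fun x => (emb_comm_tv x a).symm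
    have cb : ∀ x, Commute (tv (e0 : Vb) b) (emb 1 x) := fun x => (emb_comm_tv x b).symm
    have cab : Commute (tv (e0 : Vb) a) (tv e0 b) := by
      show _ * _ = _ * _
      rw [tv_add, tv_add, add_comm a b]
    symm
    calc emb 1 g * tv e0 a * (emb 1 h * tv e0 b) * (emb 1 g * tv e0 a)⁻¹ * (emb 1 h * tv e0 b)⁻¹
        = emb 1 g * (tv e0 a * emb 1 h) * (tv e0 b * (tv e0 a)⁻¹) * (emb 1 g)⁻¹ * (tv e0 b)⁻¹ *
            (emb 1 h)⁻¹ := by group
      _ = emb 1 g * emb 1 h * (tv e0 a * (tv e0 b * (tv e0 a)⁻¹)) * (emb 1 g)⁻¹ * (tv e0 b)⁻¹ *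
            (emb 1 h)⁻¹ := by rw [(ca h).eq]; group
      _ = emb 1 g * emb 1 h * (tv e0 b * (emb 1 g)⁻¹) * (tv e0 b)⁻¹ * (emb 1 h)⁻¹ := by
            rw [← mul_assoc (tv (e0 : Vb) a), cab.eq, mul_inv_cancel_right]; group
      _ = _ := by rw [((cb g).inv_right).eq]; group
  refine noRt_cj (g := p⁻¹) hR (inc a) (fun h => ha ?_) fun c => ?_
  · rw [← pr_inc a, h]; rfl
  · rw [← emb_tv]; exact hcomm (hroot c)

end CfsgLib.SpMin
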