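import Mathlib
import Cfsg.Agent.Lib.SpMin.Basic
import Cfsg.Agent.Lib.IsotropicSymp

/-! The index of a proper subgroup of `Sp_{2m}(q)` containing a root group. -/

set_option autoImplicit false
set_option maxHeartbeats 800000

namespace CfsgLib.SpMin

open Matrix Module
open CfsgLib.SympTransvection (tv exists_dot_ne)
open CfsgLib.SympGen
open CfsgLib.SympSimple (ext_apply mulVec_ne_zero)
open CfsgLib.IsotropicCount (sympB sympB_alt sympB_nondeg sympB_apply card_sympFrame Frame symp_trans)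

variable {F : Type*} [Field F] {m : ℕ}

local notation "Vec" => (Fin m ⊕ Fin m → F)
local notation "Sp" => Matrix.symplecticGroup (Fin m) F

/-- The orthogonal of a subspace. -/
noncomputable def perp (T : Submodule F Vec) : Submodule F Vec := LinearMap.BilinForm.orthogonal (sympB m F) T

theorem mem_perp {T : Submodule F Vec} {y : Vec} : y ∈ perp T ↔ ∀ x ∈ T, B x y = 0 := by
  refine forall₂_congr fun x _ => ?_
  show sympB m F x y = 0 ↔ _
  rw [sympB_apply]; rfl

theorem finrank_perp (T : Submodule F Vec) : finrank F (perp T) = 2 * m - finrank F T := by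
  rw [perp, LinearMap.BilinForm.finrank_orthogonal sympB_nondeg]
  simp [two_mul]

/-- Subspaces invariant under `H`. -/
def Inv (H : Subgroup Sp) (T : Submodule F Vec) : Prop := ∀ h ∈ H, ∀ x ∈ T, h.1 *ᵥ x ∈ T

theorem inv_perp {H : Subgroup Sp} {T : Submodule F Vec} (hT : Inv H T) : Inv H (perp T) := by
  intro h hh y hy
  rw [mem_perp] at hy ⊢
  intro x hx
  rw [← B_map h⁻¹, ← SympGen.mul_apply h⁻¹ h y, inv_mul_cancel, SympGen.one_apply]
  exact hy _ (hT _ (inv_mem hh) x hx)

variable [Fintype F]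

omit [Fintype F] in
theorem mulVec_inj (g : Sp) : Function.Injective (Matrix.mulVecLin g.1) := fun a b hab => by
  have h := congrArg (fun x => (g⁻¹).1 *ᵥ x) (show g.1 *ᵥ a = g.1 *ᵥ b from hab)
  rwa [← SympGen.mul_apply, ← SympGen.mul_apply, inv_mul_cancel, SympGen.one_apply, SympGen.one_apply] at h

theorem iso_key (H : Subgroup Sp) (T : Submodule F Vec) (hiso : T ≤ perp T) (hinv : Inv H T) :
    ∀ j ≤ finrank F T, ∏ i ∈ Finset.range j, (Fintype.card F ^ (2 * m - i) - Fintype.card F ^ i) ≤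
      H.index * ∏ i ∈ Finset.range j, (Fintype.card F ^ finrank F T - Fintype.card F ^ i) := by
  classical
  set q := Fintype.card F with hqdef
  set n := H.index
  set k := finrank F T with hk
  have key : ∀ j ≤ k, ∏ i ∈ Finset.range j, (q ^ (2 * m - i) - q ^ i) ≤
      n * ∏ i ∈ Finset.range j, (q ^ k - q ^ i) := by
    intro j hj
    rw [← card_sympFrame, ← Set.ncard_univ]
    let act : Sp → Frame (Cfsg.sympForm m F) j → Frame (Cfsg.sympForm m F) j := fun g s =>
      ⟨fun i => g.1 *ᵥ s.1 i, s.2.1.map' (Matrix.mulVecLin g.1) (LinearMap.ker_eq_bot.2 (mulVec_inj g)),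
        fun i i' => (B_map g _ _).trans (s.2.2 i i')⟩
    let bT := Module.finBasis F T
    let a0 : Frame (Cfsg.sympForm m F) j := ⟨fun i => (bT (Fin.castLE hj i) : Vec),
      (bT.linearIndependent.comp _ (Fin.castLE_injective hj)).map' T.subtype T.ker_subtype,
      fun i i' => mem_perp.1 (hiso (bT (Fin.castLE hj i')).2) _ (bT (Fin.castLE hj i)).2⟩
    refine (card_le_index_mul act (fun g h s => Subtype.ext (funext fun i => SympGen.mul_apply g h _))
      H Set.univ {s | ∀ i, s.1 i ∈ T} (fun h hh s hs i => hinv h hh _ (hs i)) (a0 := a0)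
      (fun i => (bT _).2) (fun a _ => ?_)).trans ?_
    · obtain ⟨g, hg⟩ := symp_trans a0 a
      exact ⟨g, Subtype.ext (funext hg)⟩
    · refine Nat.mul_le_mul_left _ ?_
      rw [Finset.prod_range]
      have hc : Nat.card {v : Fin j → T // LinearIndependent F v} = ∏ i : Fin j, (q ^ k - q ^ (i : ℕ)) :=
        card_linearIndependent hj
      rw [← hc, ← Nat.card_coe_set_eq]
      refine Nat.card_le_card_of_injective
        (fun s => ⟨fun i => ⟨s.1.1 i, s.2 i⟩, LinearIndependent.of_comp T.subtype s.1.2.1⟩) fun s t h => ?_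
      exact Subtype.ext (Subtype.ext (funext fun i =>
        congrArg Subtype.val (congrFun (congrArg Subtype.val h) i)))
  exact key

theorem iso_bound (hq : 3 ≤ Fintype.card F) (H : Subgroup Sp) (T : Submodule F Vec) (hT : T ≠ ⊥)
    (hiso : T ≤ perp T) (hinv : Inv H T) : npts (Fintype.card F) m ≤ H.index := by
  classical
  set q := Fintype.card F with hqdef
  set n := H.index
  set k := finrank F T with hk
  have hk1 : 1 ≤ k := Submodule.one_le_finrank_iff.2 hT
  have hkm : k ≤ m := by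
    have := Submodule.finrank_mono hiso
    rw [finrank_perp] at this
    omega
  have key : ∀ j ≤ k, ∏ i ∈ Finset.range j, (q ^ (2 * m - i) - q ^ i) ≤
      n * ∏ i ∈ Finset.range j, (q ^ k - q ^ i) := iso_key H T hiso hinv
  have hN := npts_spec (q := q) (by omega) m
  by_cases h1 : k = 1
  · have := key 1 hk1
    simp only [Finset.prod_range_one, pow_zero, Nat.sub_zero] at this
    rw [h1, pow_one, ← hN, Nat.add_sub_cancel] at this
    exact Nat.le_of_mul_le_mul_right this (by omega)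
  by_cases h2 : k = 2
  · have := key 2 (by omega)
    simp only [Finset.prod_range_succ, Finset.prod_range_zero, one_mul, pow_zero, Nat.sub_zero, pow_one] at this
    rw [h2, ← hN, Nat.add_sub_cancel] at this
    have h3 : q ^ 3 ≤ q ^ (2 * m - 1) := Nat.pow_le_pow_right (by omega) (by omega)
    have e : (q ^ 2 - 1) * (q ^ 2 - q) = (q - 1) * (q ^ 3 - q) := by
      obtain ⟨r, hr⟩ : ∃ r, q = r + 1 := ⟨q - 1, by omega⟩
      rw [hr, Nat.add_sub_cancel, show (r + 1) ^ 2 = r * (r + 2) + 1 by ring, Nat.add_sub_cancel,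
        show r * (r + 2) + 1 = r * (r + 1) + (r + 1) by ring, Nat.add_sub_cancel,
        show (r + 1) ^ 3 = (r + 1) * (r * (r + 2)) + (r + 1) by ring, Nat.add_sub_cancel]
      ring
    have h4 : 0 < q ^ (2 * m - 1) - q := by
      have : q < q ^ 3 := lt_self_pow₀ (by omega) (by omega)
      omega
    refine Nat.le_of_mul_le_mul_right ?_ (Nat.mul_pos (show 0 < q - 1 by omega) h4)
    calc npts q m * ((q - 1) * (q ^ (2 * m - 1) - q)) ≤ n * ((q - 1) * (q ^ 3 - q)) := by
          rw [← e, ← mul_assoc]; exact this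
      _ ≤ _ := Nat.mul_le_mul_left _ (Nat.mul_le_mul_left _ (by omega))
  have hk3 : 3 ≤ k := by omega
  have := key 3 hk3
  simp only [Finset.prod_range_succ, Finset.prod_range_zero, one_mul, pow_zero, Nat.sub_zero, pow_one] at this
  rw [← hN, Nat.add_sub_cancel] at this
  obtain ⟨l, rfl⟩ : ∃ l, m = l + 3 := ⟨m - 3, by omega⟩
  rw [show 2 * (l + 3) - 1 = 2 * l + 5 by omega, show 2 * (l + 3) - 2 = 2 * l + 4 by omega] at this
  have hR : (q ^ k - 1) * (q ^ k - q) * (q ^ k - q ^ 2) ≤ q ^ (4 * l + 9) := by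
    calc (q ^ k - 1) * (q ^ k - q) * (q ^ k - q ^ 2) ≤ q ^ k * q ^ k * q ^ k := by gcongr <;> omega
      _ ≤ _ := by rw [← pow_add, ← pow_add]; exact Nat.pow_le_pow_right (by omega) (by omega)
  have hA : (q ^ 2 - 1) * q ^ (2 * l + 3) ≤ q ^ (2 * l + 5) - q := by
    rw [Nat.sub_mul, one_mul, ← pow_add, show 2 + (2 * l + 3) = 2 * l + 5 by omega]
    have : q ^ 1 ≤ q ^ (2 * l + 3) := Nat.pow_le_pow_right (by omega) (by omega)
    rw [pow_one] at this
    omega
  have hB : (q ^ 2 - 1) * q ^ (2 * l + 2) ≤ q ^ (2 * l + 4) - q ^ 2 := by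
    rw [Nat.sub_mul, one_mul, ← pow_add, show 2 + (2 * l + 2) = 2 * l + 4 by omega]
    have : q ^ 2 ≤ q ^ (2 * l + 2) := Nat.pow_le_pow_right (by omega) (by omega)
    omega
  have h9 : q ^ 4 ≤ (q - 1) * ((q ^ 2 - 1) * (q ^ 2 - 1)) := by
    obtain ⟨r, hr⟩ : ∃ r, q = r + 3 := ⟨q - 3, by omega⟩
    rw [hr, show r + 3 - 1 = r + 2 by omega, show (r + 3) ^ 2 = r ^ 2 + 6 * r + 8 + 1 by ring,
      Nat.add_sub_cancel]
    nlinarith [sq_nonneg r, pow_nonneg (Nat.zero_le r) 3, pow_nonneg (Nat.zero_le r) 4,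
      pow_nonneg (Nat.zero_le r) 5]
  refine Nat.le_of_mul_le_mul_right ?_ (pow_pos (show 0 < q by omega) (4 * l + 9))
  calc npts q (l + 3) * q ^ (4 * l + 9)
      = npts q (l + 3) * (q ^ 4 * (q ^ (2 * l + 3) * q ^ (2 * l + 2))) := by
        rw [← pow_add, ← pow_add]; ring_nf
    _ ≤ npts q (l + 3) * ((q - 1) * ((q ^ 2 - 1) * (q ^ 2 - 1)) * (q ^ (2 * l + 3) * q ^ (2 * l + 2))) := by
        gcongr
    _ = npts q (l + 3) * (q - 1) * ((q ^ 2 - 1) * q ^ (2 * l + 3)) * ((q ^ 2 - 1) * q ^ (2 * l + 2)) := by ring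
    _ ≤ npts q (l + 3) * (q - 1) * (q ^ (2 * l + 5) - q) * (q ^ (2 * l + 4) - q ^ 2) := by gcongr
    _ ≤ n * ((q ^ k - 1) * (q ^ k - q) * (q ^ k - q ^ 2)) := this
    _ ≤ _ := Nat.mul_le_mul_left _ hR

/-- The hyperbolic pairs inside a subspace. -/
def hyp (W : Submodule F Vec) : Set (Vec × Vec) := {p | p.1 ∈ W ∧ p.2 ∈ W ∧ B p.1 p.2 = 1}

theorem card_hyp (W : Submodule F Vec) (hW : W ⊓ perp W = ⊥) :
    (hyp W).ncard * Fintype.card F = (Nat.card W - 1) * Nat.card W := by
  classical
  haveI : Fintype W := Fintype.ofFinite _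
  let P : {e : W // e ≠ 0} → Type _ := fun e => {f : W // B (e.1 : Vec) f = 1}
  have hP : ∀ e, Nat.card (P e) * Fintype.card F = Nat.card W := by
    intro e
    obtain ⟨f1, hf1⟩ : ∃ f : W, B (e.1 : Vec) f ≠ 0 := by
      by_contra h
      push Not at h
      apply e.2
      have : (e.1 : Vec) ∈ W ⊓ perp W := ⟨e.1.2, mem_perp.2 fun x hx => by
        rw [B_swap, h ⟨x, hx⟩, neg_zero]⟩
      rw [hW, Submodule.mem_bot] at this
      exact Subtype.ext this
    let f0 : W := (B (e.1 : Vec) f1)⁻¹ • f1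
    have hf0 : B (e.1 : Vec) f0 = 1 := by
      show B (e.1 : Vec) ((B (e.1 : Vec) f1)⁻¹ • (f1 : Vec)) = 1
      rw [B_smul_right, inv_mul_cancel₀ hf1]
    have E : P e × F ≃ W :=
      { toFun := fun x => x.1.1 + (x.2 - 1) • f0
        invFun := fun w => (⟨w - (B (e.1 : Vec) w - 1) • f0, by
          show B (e.1 : Vec) ((w : Vec) - (B (e.1 : Vec) w - 1) • (f0 : Vec)) = 1
          rw [B_sub_right, B_smul_right, hf0]; ring⟩, B (e.1 : Vec) w)
        left_inv := fun x => by
          have hb : B (e.1 : Vec) ((x.1.1 + (x.2 - 1) • f0 : W) : Vec) = x.2 := by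
            show B (e.1 : Vec) ((x.1.1 : Vec) + (x.2 - 1) • (f0 : Vec)) = x.2
            rw [B_add_right, B_smul_right, x.1.2, hf0]; ring
          refine Prod.ext (Subtype.ext ?_) hb
          show x.1.1 + (x.2 - 1) • f0 - _ = x.1.1
          rw [hb, add_sub_cancel_right]
        right_inv := fun w => sub_add_cancel _ _ }
    rw [← Nat.card_congr E, Nat.card_prod, Nat.card_eq_fintype_card (α := F)]
  have E : hyp W ≃ Σ e, P e :=
    { toFun := fun p => ⟨⟨⟨p.1.1, p.2.1⟩, fun h => by
          have h3 := p.2.2.2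
          rw [show p.1.1 = 0 from congrArg Subtype.val h] at h3
          simp [B] at h3⟩, ⟨⟨p.1.2, p.2.2.1⟩, p.2.2.2⟩⟩
      invFun := fun x => ⟨((x.1.1 : Vec), (x.2.1 : Vec)), x.1.1.2, x.2.1.2, x.2.2⟩
      left_inv := fun p => rfl
      right_inv := fun x => rfl }
  rw [← Nat.card_coe_set_eq, Nat.card_congr E, Nat.card_sigma, Finset.sum_mul,
    Finset.sum_congr rfl fun e _ => hP e, Finset.sum_const, Finset.card_univ, smul_eq_mul,
    Fintype.card_subtype_compl, Fintype.card_subtype_eq, Nat.card_eq_fintype_card]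

theorem top_inf_perp : (⊤ : Submodule F Vec) ⊓ perp ⊤ = ⊥ := by
  rw [eq_bot_iff]
  rintro x ⟨-, hx⟩
  rw [Submodule.mem_bot]
  by_contra hne
  obtain ⟨z, hz⟩ := exists_dot_ne hne
  exact hz (mem_perp.1 hx z trivial)

/-- A family of mutually orthogonal non-degenerate subspaces of one dimension. -/
theorem family_bound (hq : 3 ≤ Fintype.card F) (hm : 1 ≤ m) (H : Subgroup Sp) (s : Finset (Submodule F Vec))
    (d : ℕ) (hd : ∀ W ∈ s, finrank F W = d) (hd2 : 2 ≤ d) (hnd : ∀ W ∈ s, W ⊓ perp W = ⊥) (hs : s.Nonempty)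
    (hsd : s.card * d ≤ 2 * m) (hdm : d ≤ m)
    (hinv : ∀ h ∈ H, ∀ W ∈ s, ∃ W' ∈ s, ∀ x ∈ W, h.1 *ᵥ x ∈ W') :
    npts (Fintype.card F) m ≤ H.index := by
  classical
  set q := Fintype.card F
  have hcW : ∀ W ∈ s, Nat.card W = q ^ d := fun W hW => by
    rw [Module.natCard_eq_pow_finrank (K := F) (V := W), hd W hW, Nat.card_eq_fintype_card]
  have hcT : Nat.card (⊤ : Submodule F Vec) = q ^ (2 * m) := by
    rw [Module.natCard_eq_pow_finrank (K := F) (V := (⊤ : Submodule F Vec)), finrank_top,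
      Nat.card_eq_fintype_card]
    simp [two_mul, q]
  obtain ⟨W0, hW0⟩ := hs
  have h0 := card_hyp W0 (hnd W0 hW0)
  rw [hcW W0 hW0] at h0
  obtain ⟨p0, hp0⟩ : (hyp W0).Nonempty := by
    rw [Set.nonempty_iff_ne_empty]
    intro he
    rw [he, Set.ncard_empty, zero_mul] at h0
    rcases mul_eq_zero.1 h0.symm with h | h
    · have : q ^ 1 ≤ q ^ d := Nat.pow_le_pow_right (by omega) (by omega)
      rw [pow_one] at this
      omega
    · exact absurd h (pow_ne_zero _ (by omega))
  have h1 := card_le_index_mul (fun (g : Sp) (p : Vec × Vec) => (g.1 *ᵥ p.1, g.1 *ᵥ p.2))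
    (fun g h p => by simp only [SympGen.mul_apply]) H (hyp ⊤) (⋃ W ∈ s, hyp W)
    (fun h hh p hp => by
      simp only [Set.mem_iUnion] at hp ⊢
      obtain ⟨W, hW, hp1, hp2, hp3⟩ := hp
      obtain ⟨W', hW', hWW'⟩ := hinv h hh W hW
      exact ⟨W', hW', hWW' _ hp1, hWW' _ hp2, (B_map h _ _).trans hp3⟩)
    (a0 := p0) (Set.mem_biUnion hW0 hp0) (fun a ha => by
      obtain ⟨g, -, h1, h2, -⟩ := SympGen.pair hp0.2.2 ha.2.2
      exact ⟨g, Prod.ext h1 h2⟩)
  have h2 := h1.trans (Nat.mul_le_mul_left _ (Finset.set_ncard_biUnion_le s hyp))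
  have h3 : (∑ W ∈ s, (hyp W).ncard) * q = s.card * ((q ^ d - 1) * q ^ d) := by
    rw [Finset.sum_mul, Finset.sum_congr rfl fun W hW => by rw [card_hyp W (hnd W hW), hcW W hW],
      Finset.sum_const, smul_eq_mul]
  have hT := card_hyp (⊤ : Submodule F Vec) top_inf_perp
  rw [hcT] at hT
  have h4 : (q ^ (2 * m) - 1) * q ^ (2 * m) ≤ H.index * (s.card * ((q ^ d - 1) * q ^ d)) := by
    rw [← hT, ← h3, ← mul_assoc]
    exact Nat.mul_le_mul_right _ h2
  have hN := npts_spec (q := q) (by omega) m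
  have hfac : s.card * ((q ^ d - 1) * q ^ d) ≤ (q - 1) * q ^ (2 * m) := by
    have ht : s.card ≤ (q - 1) * q ^ (2 * (m - d)) := by
      by_cases ht2 : s.card ≤ 2
      · calc s.card ≤ (q - 1) * 1 := by omega
          _ ≤ _ := Nat.mul_le_mul_left _ (Nat.one_le_pow _ _ (by omega))
      · obtain ⟨t, ht⟩ : ∃ t, s.card = t + 2 := ⟨s.card - 2, by omega⟩
        rw [ht] at hsd ⊢
        have : t ≤ 2 * (m - d) := by
          have : t * 1 ≤ t * d := Nat.mul_le_mul_left _ (by omega)
          rw [add_mul] at hsd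
          omega
        have h5 : t < q ^ (2 * (m - d)) :=
          lt_of_lt_of_le (Nat.lt_pow_self (by omega)) (Nat.pow_le_pow_right (by omega) this)
        calc t + 2 ≤ 2 * q ^ (2 * (m - d)) := by omega
          _ ≤ _ := Nat.mul_le_mul_right _ (by omega)
    calc s.card * ((q ^ d - 1) * q ^ d) ≤ ((q - 1) * q ^ (2 * (m - d))) * (q ^ d * q ^ d) := by
          gcongr; exact Nat.sub_le _ _
      _ = (q - 1) * q ^ (2 * m) := by
          rw [mul_assoc, ← pow_add, ← pow_add]
          congr 2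
          omega
  rw [← hN, Nat.add_sub_cancel] at h4
  refine Nat.le_of_mul_le_mul_right ?_ (Nat.mul_pos (show 0 < q - 1 by omega)
    (Nat.succ_pos (npts q m * (q - 1))))
  calc npts q m * ((q - 1) * (npts q m * (q - 1) + 1)) = npts q m * (q - 1) * (npts q m * (q - 1) + 1) := by ring
    _ ≤ H.index * (s.card * ((q ^ d - 1) * q ^ d)) := h4
    _ ≤ H.index * ((q - 1) * q ^ (2 * m)) := Nat.mul_le_mul_left _ hfac
    _ = _ := by rw [← hN]

theorem two_le_finrank_nondeg {W : Submodule F Vec} (hW : W ≠ ⊥) (hnd : W ⊓ perp W = ⊥) : 2 ≤ finrank F W := by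
  by_contra h
  have h1 : finrank F W ≤ 1 := by omega
  obtain ⟨v, hv⟩ := finrank_le_one_iff.1 h1
  apply hW
  rw [eq_bot_iff, ← hnd]
  refine fun x hx => ⟨hx, mem_perp.2 fun y hy => ?_⟩
  obtain ⟨a, ha⟩ := hv ⟨y, hy⟩
  obtain ⟨b, hb⟩ := hv ⟨x, hx⟩
  rw [show y = a • (v : Vec) from congrArg Subtype.val ha.symm,
    show x = b • (v : Vec) from congrArg Subtype.val hb.symm, B_smul_left, B_smul_right, B_self, mul_zero, mul_zero]

theorem inv_bound (hq : 3 ≤ Fintype.card F) (H : Subgroup Sp) (T : Submodule F Vec) (hT : T ≠ ⊥)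
    (hT' : T ≠ ⊤) (hinv : Inv H T) : npts (Fintype.card F) m ≤ H.index := by
  classical
  by_cases hR : T ⊓ perp T = ⊥
  · have hd := two_le_finrank_nondeg hT hR
    have htot : finrank F Vec = 2 * m := by simp [two_mul]
    have hle : finrank F T ≤ 2 * m := htot ▸ Submodule.finrank_le T
    have hlt : finrank F T < 2 * m := htot ▸ Submodule.finrank_lt hT'
    by_cases hdm : finrank F T ≤ m
    · exact family_bound hq (by omega) H {T} (finrank F T) (by simp) hd (by simpa using hR) ⟨T, by simp⟩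
        (by simpa using hle) hdm (fun h hh W hW => ⟨T, by simp, fun x hx => by
          rw [Finset.mem_singleton.1 hW] at hx; exact hinv h hh x hx⟩)
    · have hfp := finrank_perp T
      have hne : perp T ≠ ⊥ := fun e => by
        rw [e, finrank_bot] at hfp; omega
      have hnd : perp T ⊓ perp (perp T) = ⊥ := by
        have e : perp (perp T) = T := LinearMap.BilinForm.orthogonal_orthogonal sympB_nondeg sympB_alt.isRefl T
        rw [e, inf_comm]; exact hR
      exact family_bound hq (by omega) H {perp T} (finrank F (perp T)) (by simp)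
        (two_le_finrank_nondeg hne hnd) (by simpa using hnd) ⟨perp T, by simp⟩ (by simp; omega) (by omega)
        (fun h hh W hW => ⟨perp T, by simp, fun x hx => by
          rw [Finset.mem_singleton.1 hW] at hx; exact inv_perp hinv h hh x hx⟩)
  · refine iso_bound hq H _ hR (fun x hx => mem_perp.2 fun y hy => ?_) fun h hh x hx =>
      ⟨hinv h hh x hx.1, inv_perp hinv h hh x hx.2⟩
    exact mem_perp.1 hx.2 y hy.1

/-! ### The closed set of root points -/

theorem rt_smul {H : Subgroup Sp} {v : Vec} (h : Rt H v) (a : F) : Rt H (a • v) := fun c => by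
  rw [tv_smul]; exact h _

theorem rt_line {H : Subgroup Sp} {v w : Vec} (hv : Rt H v) (hw : Rt H w) (h : B v w ≠ 0) (l : F) :
    Rt H (v + l • w) := by
  intro c
  have e : (tv w (l / B v w)).1 *ᵥ v = v + l • w := by rw [tv_apply, div_mul_cancel₀ _ h]
  rw [← e, ← conj_tv]
  exact mul_mem (mul_mem (hw _) (hv c)) (inv_mem (hw _))

theorem rt_act {H : Subgroup Sp} {v : Vec} {h : Sp} (hh : h ∈ H) (hv : Rt H v) : Rt H (h.1 *ᵥ v) := fun c => by
  rw [← conj_tv]; exact mul_mem (mul_mem hh (hv c)) (inv_mem hh)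

theorem eq_top_of_rt {H : Subgroup Sp} (h : ∀ v, Rt H v) : H = ⊤ := by
  rw [eq_top_iff, ← TV_eq_top, TV, Subgroup.closure_le]
  rintro A ⟨w, c, hA⟩
  have : A = tv w c := Subtype.ext hA
  rw [this]
  exact h w c

/-- Vectors of `W` outside the radical are root points. -/
def Good (H : Subgroup Sp) (W : Submodule F Vec) : Prop :=
  (∃ x ∈ W, ∃ y ∈ W, B x y ≠ 0) ∧ ∀ x ∈ W, (∃ y ∈ W, B x y ≠ 0) → Rt H x

theorem good_extend (hq : 3 ≤ Fintype.card F) {H : Subgroup Sp} {W : Submodule F Vec} (hW : Good H W)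
    {s : Vec} (hs : Rt H s) (hb : ∃ b ∈ W, B b s ≠ 0) : Good H (W ⊔ F ∙ s) := by
  classical
  refine ⟨?_, ?_⟩
  · obtain ⟨x, hx, y, hy, h⟩ := hW.1
    exact ⟨x, Submodule.mem_sup_left hx, y, Submodule.mem_sup_left hy, h⟩
  have key : ∀ a ∈ W, ∀ c : F, c ≠ 0 → (∃ y ∈ W ⊔ F ∙ s, B (a + c • s) y ≠ 0) → Rt H (a + c • s) := by
    intro a ha c hc hy
    by_cases hgood : (∃ y ∈ W, B a y ≠ 0) ∧ B a s ≠ 0
    · exact rt_line (hW.2 a ha hgood.1) hs hgood.2 c
    let fs : W →ₗ[F] F := ((sympB m F).flip s).comp W.subtype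
    let fy : W →ₗ[F] F := (sympB m F (a + c • s)).comp W.subtype
    have hfs : ∀ x : W, fs x = B (x : Vec) s := fun x => sympB_apply _ _
    have hfy : ∀ x : W, fy x = B (a + c • s) (x : Vec) := fun x => sympB_apply _ _
    have hA : LinearMap.ker fs ≠ ⊤ := fun e => by
      obtain ⟨b, hbW, hbs⟩ := hb
      have : (⟨b, hbW⟩ : W) ∈ LinearMap.ker fs := e ▸ Submodule.mem_top
      rw [LinearMap.mem_ker, hfs] at this
      exact hbs this
    have hR : (perp W).comap W.subtype ≠ ⊤ := fun e => by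
      obtain ⟨x, hx, y, hy, h⟩ := hW.1
      have : (⟨y, hy⟩ : W) ∈ (perp W).comap W.subtype := e ▸ Submodule.mem_top
      exact h (mem_perp.1 this x hx)
    have hC : B a s = 0 → LinearMap.ker fy ≠ ⊤ := fun has e => by
      obtain ⟨y, hy, hne⟩ := hy
      obtain ⟨y1, hy1, _, hy2, rfl⟩ := Submodule.mem_sup.1 hy
      obtain ⟨c', rfl⟩ := Submodule.mem_span_singleton.1 hy2
      have : (⟨y1, hy1⟩ : W) ∈ LinearMap.ker fy := e ▸ Submodule.mem_top
      rw [LinearMap.mem_ker, hfy] at this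
      apply hne
      rw [B_add_right, this, B_smul_right, B_add_left, B_smul_left, has, B_self, mul_zero, add_zero, mul_zero,
        add_zero]
    obtain ⟨b, hbs, hbr, hby⟩ : ∃ b : W, B (b : Vec) s ≠ 0 ∧ (∃ y ∈ W, B (b : Vec) y ≠ 0) ∧
        (B a s = 0 → B (a + c • s) (b : Vec) ≠ 0) := by
      have hbr : ∀ x : W, x ∉ (perp W).comap W.subtype → ∃ y ∈ W, B (x : Vec) y ≠ 0 := fun x hx => by
        by_contra h
        push Not at h
        exact hx (mem_perp.2 fun y hy => by rw [B_swap]; exact neg_eq_zero.2 (h y hy))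
      by_cases has : B a s = 0
      · obtain ⟨b, h1, h2, h3⟩ := avoid3 hq _ _ _ hA hR (hC has)
        exact ⟨b, fun e => h1 (LinearMap.mem_ker.2 ((hfs b).trans e)), hbr b h2,
          fun _ e => h3 (LinearMap.mem_ker.2 ((hfy b).trans e))⟩
      · obtain ⟨b, h1, h2, -⟩ := avoid3 hq _ _ _ hA hR hR
        exact ⟨b, fun e => h1 (LinearMap.mem_ker.2 ((hfs b).trans e)), hbr b h2, fun e => absurd e has⟩
    obtain ⟨w, hw⟩ : ∃ w, w ∉ ({0, 1} : Finset F) := by
      by_contra h
      push Not at h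
      have := (Finset.card_le_card (fun x _ => h x : Finset.univ ⊆ ({0, 1} : Finset F))).trans Finset.card_le_two
      rw [Finset.card_univ] at this
      omega
    have hw0 : w ≠ 0 := fun e => hw (by simp [e])
    have hw1 : w ≠ 1 := fun e => hw (by simp [e])
    have hy0 : B (a + c • s) (b : Vec) = B a b - c * B (b : Vec) s := by
      rw [B_add_left, B_smul_left, B_swap s]; ring
    obtain ⟨l, hl0, hl1, hl2⟩ : ∃ l : F, l ≠ 0 ∧ (∃ y ∈ W, B (a - l • (b : Vec)) y ≠ 0) ∧
        c * B a s + l * B (a + c • s) (b : Vec) ≠ 0 := by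
      obtain ⟨y, hyW, hby'⟩ := hbr
      by_cases has : B a s = 0
      · have hE : ∀ l : F, l ≠ 0 → c * B a s + l * B (a + c • s) (b : Vec) ≠ 0 := fun l hl => by
          rw [has, mul_zero, zero_add]; exact mul_ne_zero hl (hby has)
        by_cases h1 : B (a - (1 : F) • (b : Vec)) y = 0
        · refine ⟨w, hw0, ⟨y, hyW, fun h => ?_⟩, hE w hw0⟩
          rw [B_sub_left, B_smul_left] at h h1
          exact mul_ne_zero (sub_ne_zero.2 hw1) hby' (by linear_combination h1 - h)
        · exact ⟨1, one_ne_zero, ⟨y, hyW, h1⟩, hE 1 one_ne_zero⟩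
      · have hay : B a y = 0 := by
          by_contra h
          exact hgood ⟨⟨y, hyW, h⟩, has⟩
        have hrad : ∀ l : F, l ≠ 0 → B (a - l • (b : Vec)) y ≠ 0 := fun l hl => by
          rw [B_sub_left, B_smul_left, hay, zero_sub, neg_ne_zero]; exact mul_ne_zero hl hby'
        by_cases h1 : c * B a s + 1 * B (a + c • s) (b : Vec) = 0
        · refine ⟨w, hw0, ⟨y, hyW, hrad w hw0⟩, fun h => ?_⟩
          have h2 : (w - 1) * B (a + c • s) (b : Vec) = 0 := by linear_combination h - h1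
          rw [(mul_eq_zero.1 h2).resolve_left (sub_ne_zero.2 hw1), mul_zero, add_zero] at h1
          exact mul_ne_zero hc has h1
        · exact ⟨1, one_ne_zero, ⟨y, hyW, hrad 1 one_ne_zero⟩, h1⟩
    have hu : Rt H (a - l • (b : Vec)) := hW.2 _ (W.sub_mem ha (W.smul_mem _ b.2)) hl1
    have hv : Rt H (l • (b : Vec) + c • s) := rt_line (rt_smul (hW.2 _ b.2 hbr) l) hs
      (by rw [B_smul_left]; exact mul_ne_zero hl0 hbs) c
    have := rt_line hu hv (by
      intro h
      apply hl2
      rw [hy0]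
      simp only [B_sub_left, B_add_right, B_smul_left, B_smul_right, B_self] at h
      linear_combination h) 1
    rwa [one_smul, show a - l • (b : Vec) + (l • (b : Vec) + c • s) = a + c • s by abel] at this
  intro y0 hy0 hy0'
  obtain ⟨a, ha, _, hc, rfl⟩ := Submodule.mem_sup.1 hy0
  obtain ⟨c, rfl⟩ := Submodule.mem_span_singleton.1 hc
  by_cases hc0 : c = 0
  · subst hc0
    rw [zero_smul, add_zero] at hy0' ⊢
    by_cases hnr : ∃ y ∈ W, B a y ≠ 0
    · exact hW.2 a ha hnr
    · push Not at hnr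
      obtain ⟨y, hy, hay⟩ := hy0'
      obtain ⟨y1, hy1, _, hy2, rfl⟩ := Submodule.mem_sup.1 hy
      obtain ⟨c', rfl⟩ := Submodule.mem_span_singleton.1 hy2
      rw [B_add_right, hnr y1 hy1, zero_add, B_smul_right] at hay
      have has : B a s ≠ 0 := right_ne_zero_of_mul hay
      have has' : B (a + (1 : F) • s) s ≠ 0 := by
        rwa [B_add_left, B_smul_left, B_self, mul_zero, add_zero]
      have h1 := key a ha 1 one_ne_zero ⟨s, Submodule.mem_sup_right (Submodule.mem_span_singleton_self s), has'⟩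
      have := rt_line h1 hs has' (-1)
      rwa [one_smul, neg_one_smul, add_neg_cancel_right] at this
  · exact key a ha c hc0 hy0'

theorem finrank_sup_family {s : Finset (Submodule F Vec)} {d : ℕ} (hd : ∀ W ∈ s, finrank F W = d)
    (hnd : ∀ W ∈ s, W ⊓ perp W = ⊥) (horth : ∀ W ∈ s, ∀ W' ∈ s, W ≠ W' → W' ≤ perp W) :
    finrank F (s.sup id : Submodule F Vec) = s.card * d := by
  classical
  induction s using Finset.induction_on with
  | empty => simp
  | @insert W s hW ih =>
    have hle : s.sup id ≤ perp W := Finset.sup_le fun W' hW' => horth W (Finset.mem_insert_self _ _) W'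
      (Finset.mem_insert_of_mem hW') fun e => hW (e ▸ hW')
    have hdis : W ⊓ s.sup id = ⊥ := eq_bot_iff.2
      ((inf_le_inf_left W hle).trans (hnd W (Finset.mem_insert_self _ _)).le)
    have := Submodule.finrank_sup_add_finrank_inf_eq W (s.sup id)
    rw [hdis, finrank_bot, add_zero, hd W (Finset.mem_insert_self _ _), ih
      (fun V hV => hd V (Finset.mem_insert_of_mem hV)) (fun V hV => hnd V (Finset.mem_insert_of_mem hV))
      (fun V hV V' hV' => horth V (Finset.mem_insert_of_mem hV) V' (Finset.mem_insert_of_mem hV'))] at this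
    rw [Finset.sup_insert, id, this, Finset.card_insert_of_notMem hW]
    ring

/-- A proper subgroup containing a root group has index at least the number of points. -/
theorem root_bound (hq : 3 ≤ Fintype.card F) {H : Subgroup Sp} (hH : H ≠ ⊤) {v0 : Vec} (hv0 : v0 ≠ 0)
    (hR : Rt H v0) : npts (Fintype.card F) m ≤ H.index := by
  classical
  by_cases hpair : ∃ v w, Rt H v ∧ Rt H w ∧ B v w ≠ 0
  swap
  · push Not at hpair
    let S : Set Vec := {v | Rt H v}
    have h1 : ∀ x ∈ Submodule.span F S, ∀ w, Rt H w → B x w = 0 := by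
      intro x hx w hw
      induction hx using Submodule.span_induction with
      | mem a ha => exact hpair a w ha hw
      | zero => simp [B]
      | add a b _ _ iha ihb => rw [B_add_left, iha, ihb, add_zero]
      | smul c a _ iha => rw [B_smul_left, iha, mul_zero]
    refine iso_bound hq H (Submodule.span F S) (fun e => hv0 ?_) (Submodule.span_le.2 fun w hw =>
      mem_perp.2 fun x hx => h1 x hx w hw) ?_
    · have := Submodule.subset_span (R := F) (show v0 ∈ S from hR)
      rwa [e] at this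
    · intro h hh x hx
      induction hx using Submodule.span_induction with
      | mem a ha => exact Submodule.subset_span (rt_act hh ha)
      | zero => simp
      | add a b _ _ iha ihb => rw [Matrix.mulVec_add]; exact Submodule.add_mem _ iha ihb
      | smul c a _ iha => rw [Matrix.mulVec_smul]; exact Submodule.smul_mem _ c iha
  obtain ⟨v, w, hv, hw, hvw⟩ := hpair
  have hplane : Good H (Submodule.span F {v, w}) := by
    refine ⟨⟨v, Submodule.subset_span (by simp), w, Submodule.subset_span (by simp), hvw⟩, fun x hx _ => ?_⟩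
    obtain ⟨a, b, rfl⟩ := Submodule.mem_span_pair.1 hx
    by_cases ha : a = 0
    · rw [ha, zero_smul, zero_add]; exact rt_smul hw b
    · exact rt_line (rt_smul hv a) hw (by rw [B_smul_left]; exact mul_ne_zero ha hvw) b
  haveI : Finite (Submodule F Vec) := inferInstance
  obtain ⟨W, hW, hmax⟩ := Set.exists_max_image {W : Submodule F Vec | Good H W}
    (fun W => finrank F W) (Set.toFinite _) ⟨_, hplane⟩
  change Good H W at hW
  have hsplit : ∀ s, Rt H s → s ∈ W ∨ s ∈ perp W := by
    intro s hs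
    by_contra h
    push Not at h
    obtain ⟨b, hb, hbs⟩ : ∃ b ∈ W, B b s ≠ 0 := by
      by_contra h'
      push Not at h'
      exact h.2 (mem_perp.2 h')
    have := hmax _ (good_extend hq hW hs ⟨b, hb, hbs⟩)
    refine absurd this (not_le.2 (Submodule.finrank_lt_finrank_of_lt (lt_of_le_of_ne le_sup_left fun e => h.1 ?_)))
    rw [e]
    exact Submodule.mem_sup_right (Submodule.mem_span_singleton_self s)
  let im : H → Submodule F Vec := fun h => W.map (Matrix.mulVecLin (h : Sp).1)
  have hinj : ∀ g : Sp, Function.Injective (Matrix.mulVecLin g.1) := mulVec_inj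
  have hfr : ∀ h, finrank F (im h) = finrank F W := fun h =>
    (LinearEquiv.finrank_eq (Submodule.equivMapOfInjective _ (hinj _) W)).symm
  have him : ∀ h : H, im h = W ∨ im h ≤ perp W := by
    intro h
    by_contra hcon
    push Not at hcon
    have hA : W.comap (im h).subtype ≠ ⊤ := fun e => by
      rw [Submodule.comap_subtype_eq_top] at e
      exact hcon.1 (Submodule.eq_of_le_of_finrank_eq e (hfr h))
    have hB : (perp W).comap (im h).subtype ≠ ⊤ := fun e => hcon.2 (Submodule.comap_subtype_eq_top.1 e)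
    have hC : (perp (im h)).comap (im h).subtype ≠ ⊤ := fun e => by
      obtain ⟨x, hx, y, hy, hxy⟩ := hW.1
      have h2 := mem_perp.1 (Submodule.comap_subtype_eq_top.1 e (Submodule.mem_map_of_mem hy))
        _ (Submodule.mem_map_of_mem hx)
      exact hxy ((B_map (h : Sp) x y).symm.trans h2)
    obtain ⟨⟨x, hx⟩, h1, h2, h3⟩ := avoid3 hq _ _ _ hA hB hC
    obtain ⟨x0, hx0, rfl⟩ := Submodule.mem_map.1 hx
    have hne : ∃ y ∈ W, B x0 y ≠ 0 := by
      by_contra hne
      push Not at hne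
      refine h3 (mem_perp.2 fun y hy => ?_)
      obtain ⟨y0, hy0, rfl⟩ := Submodule.mem_map.1 hy
      show B ((h : Sp).1 *ᵥ y0) ((h : Sp).1 *ᵥ x0) = 0
      rw [B_map, B_swap, hne y0 hy0, neg_zero]
    rcases hsplit _ (rt_act h.2 (hW.2 x0 hx0 hne)) with h4 | h4
    exacts [h1 h4, h2 h4]
  let T : Submodule F Vec := ⨆ h, im h
  have hTinv : Inv H T := by
    intro g hg x hx
    have h1 : T.map (Matrix.mulVecLin g.1) ≤ T := by
      rw [Submodule.map_iSup]
      refine iSup_le fun h => le_trans ?_ (le_iSup im (⟨g, hg⟩ * h))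
      rintro _ ⟨_, ⟨x, hx, rfl⟩, rfl⟩
      exact ⟨x, hx, SympGen.mul_apply g h x⟩
    exact h1 ⟨x, hx, rfl⟩
  have him1 : im 1 = W := le_antisymm (by rintro _ ⟨x, hx, rfl⟩; simpa [SympGen.one_apply] using hx)
    fun x hx => ⟨x, hx, SympGen.one_apply x⟩
  have hWT : W ≤ T := him1 ▸ le_iSup im 1
  have hWne : W ≠ ⊥ := fun e => by
    obtain ⟨x, hx, y, hy, h⟩ := hW.1
    rw [e, Submodule.mem_bot] at hx
    simp [hx, B] at h
  by_cases hT : T = ⊤
  swap
  · exact inv_bound hq H T (fun e => hWne (eq_bot_iff.2 (e ▸ hWT))) hT hTinv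
  have hnd : W ⊓ perp W = ⊥ := by
    rw [eq_bot_iff]
    rintro x ⟨hxW, hxP⟩
    have hle : T ≤ LinearMap.ker ((sympB m F).flip x) := iSup_le fun h y hy => by
      show sympB m F y x = 0
      rw [sympB_apply]
      rcases him h with e | e
      · exact mem_perp.1 hxP y (e ▸ hy)
      · show B y x = 0
        rw [B_swap, mem_perp.1 (e hy) x hxW, neg_zero]
    rw [Submodule.mem_bot]
    by_contra hne
    obtain ⟨z, hz⟩ := exists_dot_ne hne
    have := hle (hT ▸ Submodule.mem_top : z ∈ T)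
    rw [LinearMap.mem_ker] at this
    exact hz ((sympB_apply z x).symm.trans this)
  have hWtop : W ≠ ⊤ := by
    intro e
    refine hH (eq_top_of_rt fun x => ?_)
    by_cases hx : x = 0
    · intro c; rw [hx, SympSimple.tv_zero_vec]; exact one_mem H
    obtain ⟨z, hz⟩ := exists_dot_ne hx
    exact hW.2 x (e ▸ Submodule.mem_top) ⟨z, e ▸ Submodule.mem_top, by rw [B_swap]; exact neg_ne_zero.2 hz⟩
  haveI : Fintype H := Fintype.ofFinite _
  let s : Finset (Submodule F Vec) := Finset.univ.image im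
  have hds : ∀ V ∈ s, finrank F V = finrank F W := fun V hV => by
    obtain ⟨h, -, rfl⟩ := Finset.mem_image.1 hV; exact hfr h
  have hcomp : ∀ g h : H, (im h).map (Matrix.mulVecLin (g : Sp).1) = im (g * h) := fun g h => by
    refine le_antisymm ?_ ?_
    · rintro _ ⟨_, ⟨x, hx, rfl⟩, rfl⟩; exact ⟨x, hx, SympGen.mul_apply (g : Sp) h x⟩
    · rintro _ ⟨x, hx, rfl⟩; exact ⟨_, ⟨x, hx, rfl⟩, (SympGen.mul_apply (g : Sp) h x).symm⟩
  have hnds : ∀ V ∈ s, V ⊓ perp V = ⊥ := fun V hV => by
    obtain ⟨h, -, rfl⟩ := Finset.mem_image.1 hV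
    rw [eq_bot_iff]
    rintro _ ⟨⟨x, hx, rfl⟩, hx'⟩
    have : x ∈ W ⊓ perp W := ⟨hx, mem_perp.2 fun y hy => by
      rw [← B_map (h : Sp)]; exact mem_perp.1 hx' _ (Submodule.mem_map_of_mem hy)⟩
    rw [hnd, Submodule.mem_bot] at this
    simp [this]
  have horth : ∀ V ∈ s, ∀ V' ∈ s, V ≠ V' → V' ≤ perp V := by
    intro V hV V' hV' hne
    obtain ⟨h, -, rfl⟩ := Finset.mem_image.1 hV
    obtain ⟨h', -, rfl⟩ := Finset.mem_image.1 hV'
    rcases him (h⁻¹ * h') with e | e
    · exact absurd (show im h = im h' by rw [← mul_inv_cancel_left h h', ← hcomp, e]) hne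
    · intro y hy
      rw [← mul_inv_cancel_left h h', ← hcomp] at hy
      obtain ⟨y0, hy0, rfl⟩ := hy
      refine mem_perp.2 fun x hx => ?_
      obtain ⟨x0, hx0, rfl⟩ := hx
      exact (B_map (h : Sp) x0 y0).trans (mem_perp.1 (e hy0) x0 hx0)
  have hsup : s.sup id = T := le_antisymm
    (Finset.sup_le fun V hV => by obtain ⟨h, -, rfl⟩ := Finset.mem_image.1 hV; exact le_iSup im h)
    (iSup_le fun h => Finset.le_sup (f := id) (Finset.mem_image_of_mem im (Finset.mem_univ h)))
  have hcard := finrank_sup_family hds hnds horth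
  rw [hsup, hT, finrank_top, show finrank F Vec = 2 * m by simp [two_mul]] at hcard
  have hlt : finrank F W < 2 * m := by
    have := Submodule.finrank_lt hWtop
    simpa [two_mul] using this
  have h2 : 2 ≤ s.card := by
    by_contra h2
    have : s.card * finrank F W ≤ 1 * finrank F W := Nat.mul_le_mul_right _ (by omega)
    omega
  have h2d := two_le_finrank_nondeg hWne hnd
  have h4 : 2 * finrank F W ≤ s.card * finrank F W := Nat.mul_le_mul_right _ h2
  refine family_bound hq (by omega) H s (finrank F W) hds h2d hnds ⟨im 1, Finset.mem_image_of_mem im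
    (Finset.mem_univ _)⟩ hcard.ge (by omega) fun h hh V hV => ?_
  obtain ⟨h', -, rfl⟩ := Finset.mem_image.1 hV
  refine ⟨im (⟨h, hh⟩ * h'), Finset.mem_image_of_mem im (Finset.mem_univ _), fun x hx => ?_⟩
  rw [← hcomp]
  exact Submodule.mem_map_of_mem hx

end CfsgLib.SpMin
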