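import Mathlib
import Cfsg.Agent.Lib.SpMin.Point
import Cfsg.Agent.Lib.SpMin.Roots

/-! Auxiliary bounds for the point stabiliser argument. -/

set_option autoImplicit false

namespace CfsgLib.SpMin

open Matrix
open CfsgLib.SympTransvection (tv transitive exists_dot_ne)
open CfsgLib.SympGen
open scoped commutatorElement
open CfsgLib.SympSimple (ext_apply mulVec_ne_zero exists_perp_ne)

variable {F : Type*} [Field F] {m : ℕ}

local notation "Vec" => (Fin m ⊕ Fin m → F)
local notation "Sp" => Matrix.symplecticGroup (Fin m) F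

/-- The stabiliser of a line. -/
def Line (a : Vec) : Subgroup Sp where
  carrier := {g | ∃ c : F, g.1 *ᵥ a = c • a}
  mul_mem' := by
    rintro g h ⟨c, hc⟩ ⟨d, hd⟩
    exact ⟨d * c, by rw [SympGen.mul_apply, hd, Matrix.mulVec_smul, hc, smul_smul]⟩
  one_mem' := ⟨1, by rw [SympGen.one_apply, one_smul]⟩
  inv_mem' := by
    rintro g ⟨c, hc⟩
    have h1 : (g⁻¹).1 *ᵥ (g.1 *ᵥ a) = a := by rw [← SympGen.mul_apply, inv_mul_cancel, SympGen.one_apply]
    rw [hc, Matrix.mulVec_smul] at h1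
    by_cases hc0 : c = 0
    · rw [hc0, zero_smul] at h1
      exact ⟨1, by rw [← h1, Matrix.mulVec_zero, smul_zero]⟩
    · refine ⟨c⁻¹, ?_⟩
      conv_rhs => rw [← h1]
      rw [smul_smul, inv_mul_cancel₀ hc0, one_smul]

theorem tv_self_mem (a : Vec) (c : F) : tv a c ∈ Line a :=
  ⟨1, by rw [tv_apply, B_self, mul_zero, zero_smul, add_zero, one_smul]⟩

theorem line_comm {a : Vec} (ha : a ≠ 0) (hx : ∃ x : F, x ≠ 0 ∧ x ^ 2 ≠ 1) {K : Subgroup Sp} (hK : Line a ≤ K)
    (c : F) : tv a c ∈ ⁅K, K⁆ := by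
  obtain ⟨x, hx0, hx2⟩ := hx
  obtain ⟨g, hg⟩ := transitive ha (smul_ne_zero hx0 ha)
  have h1 := Subgroup.commutator_mem_commutator (hK ⟨x, hg⟩) (hK (tv_self_mem a (c / (x ^ 2 - 1))))
  rw [SympSimple.comm_tv, hg, tv_smul, tv_add] at h1
  convert h1 using 2
  have := sub_ne_zero.2 hx2
  field_simp
  ring

theorem tv_mem_comm_top (hp : _root_.commutator Sp = (⊤ : Subgroup Sp)) (a : Vec) (c : F) : tv a c ∈ ⁅(⊤ : Subgroup Sp), (⊤ : Subgroup Sp)⁆ := by
  have : ⁅(⊤ : Subgroup Sp), (⊤ : Subgroup Sp)⁆ = ⊤ := hp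
  rw [this]
  trivial

variable [Fintype F]

theorem line_ne_top (hm : 1 ≤ m) {a : Vec} (ha : a ≠ 0) : Line a ≠ ⊤ := by
  intro e
  obtain ⟨z, hz⟩ := exists_dot_ne ha
  have hz0 : z ≠ 0 := fun h => hz (by simp [h])
  obtain ⟨g, hg⟩ := transitive ha hz0
  obtain ⟨c, hc⟩ : g ∈ Line a := e ▸ Subgroup.mem_top g
  apply hz
  show B z a = 0
  rw [← hg, hc, B_smul_left, B_self, mul_zero]

theorem line_index (hq : 3 ≤ Fintype.card F) (hm : 1 ≤ m) {a : Vec} (ha : a ≠ 0) :
    npts (Fintype.card F) m ≤ (Line a).index :=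
  root_bound hq (line_ne_top hm ha) ha fun c => tv_self_mem a c

/-- An invariant set of vectors bounds the index. -/
theorem orbit_bound (K : Subgroup Sp) (A : Set Vec) (hA : ∀ g ∈ K, ∀ x ∈ A, g.1 *ᵥ x ∈ A) {a : Vec} (ha : a ∈ A)
    (ha0 : a ≠ 0) : Fintype.card F ^ (2 * m) - 1 ≤ K.index * (A \ {0}).ncard := by
  have h := card_le_index_mul (fun (g : Sp) (x : Vec) => g.1 *ᵥ x) (fun g h x => SympGen.mul_apply g h x) K
    {x | x ≠ 0} (A \ {0}) (fun g hg x hx => ⟨hA g hg x hx.1, mulVec_ne_zero g hx.2⟩) (a0 := a) ⟨ha, ha0⟩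
    (fun x hx => transitive ha0 hx)
  have hc : ({x | x ≠ 0} : Set Vec).ncard + 1 = Fintype.card F ^ (2 * m) := by
    rw [show ({x | x ≠ 0} : Set Vec) = Set.univ \ {0} by ext; simp,
      Set.ncard_sdiff_singleton_add_one (Set.mem_univ _) (Set.toFinite _), Set.ncard_univ, Nat.card_eq_fintype_card]
    simp [two_mul]
  omega

/-- The stabiliser of a vector. -/
def Fix (a : Vec) : Subgroup Sp where
  carrier := {g | g.1 *ᵥ a = a}
  mul_mem' := by
    rintro g h (hg : g.1 *ᵥ a = a) (hh : h.1 *ᵥ a = a)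
    show (g * h).1 *ᵥ a = a
    rw [SympGen.mul_apply, hh, hg]
  one_mem' := SympGen.one_apply a
  inv_mem' := by
    rintro g (hg : g.1 *ᵥ a = a)
    show (g⁻¹).1 *ᵥ a = a
    conv_lhs => rw [← hg]
    rw [← SympGen.mul_apply, inv_mul_cancel, SympGen.one_apply]

/-- A subgroup with small invariant set and small index contains a vector stabiliser. -/
theorem fix_le (K : Subgroup Sp) (A : Set Vec) (hA : ∀ g ∈ K, ∀ x ∈ A, g.1 *ᵥ x ∈ A) {a : Vec} (ha : a ∈ A)
    (ha0 : a ≠ 0) (h : K.index * (A \ {0}).ncard ≤ Fintype.card F ^ (2 * m) - 1) : Fix a ≤ K := by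
  classical
  let f : (K ⧸ (Fix a).subgroupOf K) → (A \ {0} : Set Vec) :=
    Quotient.lift (fun g : K => (⟨g.1.1 *ᵥ a, hA g g.2 a ha, mulVec_ne_zero g.1 ha0⟩ : (A \ {0} : Set Vec)))
      (fun g g' hgg => by
        have hh : ((g⁻¹ * g' : K) : Sp).1 *ᵥ a = a := QuotientGroup.leftRel_apply.1 hgg
        apply Subtype.ext
        show g.1.1 *ᵥ a = g'.1.1 *ᵥ a
        rw [Subgroup.coe_mul, Subgroup.coe_inv, SympGen.mul_apply] at hh
        conv_lhs => rw [← hh]
        rw [← SympGen.mul_apply, mul_inv_cancel, SympGen.one_apply])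
  have hf : Function.Injective f := by
    intro x y
    induction x using Quotient.inductionOn
    induction y using Quotient.inductionOn
    rename_i g g'
    intro hxy
    refine Quotient.sound (QuotientGroup.leftRel_apply.2 ?_)
    show ((g⁻¹ * g' : K) : Sp).1 *ᵥ a = a
    have e : g.1.1 *ᵥ a = g'.1.1 *ᵥ a := congrArg Subtype.val hxy
    rw [Subgroup.coe_mul, Subgroup.coe_inv, SympGen.mul_apply, ← e, ← SympGen.mul_apply, inv_mul_cancel,
      SympGen.one_apply]
  have h1 : (Fix a).relIndex K ≤ (A \ {0}).ncard := by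
    rw [← Nat.card_coe_set_eq]
    exact Nat.card_le_card_of_injective f hf
  have hFix : Fintype.card F ^ (2 * m) - 1 ≤ (Fix a).index := by
    refine (orbit_bound (Fix a) {a} (fun g hg x hx => ?_) rfl ha0).trans ?_
    · rw [Set.mem_singleton_iff] at hx ⊢
      rw [hx]; exact hg
    · conv_rhs => rw [← mul_one (Fix a).index]
      refine Nat.mul_le_mul_left _ ((Set.ncard_le_ncard Set.sdiff_subset (Set.toFinite _)).trans ?_)
      rw [Set.ncard_singleton]
  have e1 := Subgroup.relIndex_mul_index (H := Fix a ⊓ K) (inf_le_left : Fix a ⊓ K ≤ Fix a)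
  have e2 := Subgroup.relIndex_mul_index (H := Fix a ⊓ K) (inf_le_right : Fix a ⊓ K ≤ K)
  rw [Subgroup.inf_relIndex_right] at e2
  rw [inf_comm, Subgroup.inf_relIndex_right, inf_comm] at e1
  have h3 : K.relIndex (Fix a) * (Fix a).index ≤ 1 * (Fix a).index :=
    calc _ = (Fix a).relIndex K * K.index := by rw [e1, e2]
      _ ≤ (A \ {0}).ncard * K.index := Nat.mul_le_mul_right _ h1
      _ ≤ _ := by rw [one_mul, mul_comm]; exact h.trans hFix
  have h4 := Nat.le_of_mul_le_mul_right h3 (Nat.pos_of_ne_zero Subgroup.index_ne_zero_of_finite)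
  have h5 : K.relIndex (Fix a) ≠ 0 := by
    intro h0
    rw [h0, zero_mul] at e1
    exact Subgroup.index_ne_zero_of_finite e1.symm
  exact Subgroup.relIndex_eq_one.1 (by omega)

/-- The annihilator of an additive subgroup through a character. -/
def ann (ψ : AddChar F ℂ) (W : AddSubgroup Vec) : AddSubgroup Vec where
  carrier := {y | ∀ w ∈ W, ψ (B y w) = 1}
  zero_mem' := fun w _ => by simp [B]
  add_mem' := fun {a b} ha hb w hw => by rw [B_add_left, AddChar.map_add_eq_mul, ha w hw, hb w hw, one_mul]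
  neg_mem' := fun {a} ha w hw => by
    rw [← neg_one_smul F a, B_smul_left, neg_one_mul, AddChar.map_neg_eq_inv, ha w hw, inv_one]

theorem card_ann {ψ : AddChar F ℂ} (hψ : ψ ≠ 0) (W : AddSubgroup Vec) :
    Nat.card (ann ψ W) * Nat.card W = Fintype.card F ^ (2 * m) := by
  classical
  haveI : Fintype W := Fintype.ofFinite _
  obtain ⟨t, ht⟩ := AddChar.ne_zero_iff.1 hψ
  have h1 : ∀ y : Vec, ∑ w : W, ψ (B y w) = if y ∈ ann ψ W then (Nat.card W : ℂ) else 0 := by
    intro y
    let χ : AddChar W ℂ :=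
      { toFun := fun w => ψ (B y (w : Vec))
        map_zero_eq_one' := by simp [B]
        map_add_eq_mul' := fun a b => by rw [AddSubgroup.coe_add, B_add_right, AddChar.map_add_eq_mul] }
    show ∑ w : W, χ w = _
    rw [AddChar.sum_eq_ite, Nat.card_eq_fintype_card]
    have : χ = 0 ↔ y ∈ ann ψ W := by
      constructor
      · intro h w hw
        exact DFunLike.congr_fun h (⟨w, hw⟩ : W)
      · intro h
        exact DFunLike.ext χ 0 fun w : W => h (w : Vec) w.2
    simp only [this]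
  have h2 : ∀ w : W, ∑ y : Vec, ψ (B y w) = if w = 0 then (Fintype.card Vec : ℂ) else 0 := by
    intro w
    let χ : AddChar Vec ℂ :=
      { toFun := fun y => ψ (B y (w : Vec))
        map_zero_eq_one' := by simp [B]
        map_add_eq_mul' := fun a b => by rw [B_add_left, AddChar.map_add_eq_mul] }
    show ∑ y : Vec, χ y = _
    rw [AddChar.sum_eq_ite]
    have : χ = 0 ↔ w = 0 := by
      constructor
      · intro h
        by_contra hw
        obtain ⟨z, hz⟩ := exists_dot_ne (fun e => hw (Subtype.ext e) : (w : Vec) ≠ 0)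
        have h' : ψ (B ((t / B z (w : Vec)) • z) (w : Vec)) = 1 := DFunLike.congr_fun h _
        rw [B_smul_left, div_mul_cancel₀ _ hz] at h'
        exact ht h'
      · intro h
        exact DFunLike.ext _ _ fun y => by
          show ψ (B y (w : Vec)) = 1
          rw [h]; simp [B]
    simp only [this]
  have key := Finset.sum_comm (s := (Finset.univ : Finset Vec)) (t := (Finset.univ : Finset W))
    (f := fun y w => ψ (B y (w : Vec)))
  rw [Finset.sum_congr rfl fun y _ => h1 y, Finset.sum_congr rfl fun w _ => h2 w, Finset.sum_ite_eq',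
    if_pos (Finset.mem_univ _), ← Finset.sum_filter, Finset.sum_const, nsmul_eq_mul, ← Nat.cast_mul,
    Nat.cast_inj] at key
  have hcard : (Finset.univ.filter fun y => y ∈ ann ψ W).card = Nat.card (ann ψ W) := by
    rw [Nat.card_eq_fintype_card, Fintype.card_subtype]
  rw [← hcard, key]
  simp [two_mul]

end CfsgLib.SpMin
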