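import Mathlib
import Cfsg.Agent.Lib.SpMin.Tools

/-! The minimal index of `Sp_{2m}(q)`, `q` odd. -/

set_option autoImplicit false
set_option maxHeartbeats 800000

namespace CfsgLib.SpMin

open Matrix
open CfsgLib.SympTransvection (tv transitive)
open CfsgLib.SympGen
open CfsgLib.SympSimple (ext_apply mulVec_ne_zero)
open scoped commutatorElement

variable {F : Type*} [Field F] [Fintype F] {k : ℕ}

local notation "Vl" => (Fin k ⊕ Fin k → F)
local notation "Gl" => Matrix.symplecticGroup (Fin k) F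
local notation "Gb" => Matrix.symplecticGroup (Fin (k + 1)) F

/-- The bound proved: the number of points, or 27 for `Sp_4(3)`. -/
def oddBd (q m : ℕ) : ℕ := if m = 2 ∧ q = 3 then 27 else npts q m

theorem exists_sq_ne {q : ℕ} (hF : Fintype.card F = q) (h4 : 4 ≤ q) : ∃ x : F, x ≠ 0 ∧ x ^ 2 ≠ 1 :=
  SympSimple.field_cond (by omega)

theorem eps_exists : ∃ e : Gl, ∀ v : Vl, e.1 *ᵥ v = (-1 : F) • v :=
  ⟨ofLin (-LinearMap.id) fun x y => by
    show B (-x) (-y) = B x y
    rw [← neg_one_smul F x, ← neg_one_smul F y, B_smul_left, B_smul_right]; ring,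
  fun v => by rw [ofLin_apply]; simp⟩

/-- With `-1` and a line stabiliser in the kernel part, a root group appears. -/
theorem odd_root (h2 : (2 : F) ≠ 0) {H : Subgroup (Matrix.symplecticGroup (Fin (k + 1)) F)} (hR : NoRt H)
    {a : Vl} (ha : a ≠ 0) (hle : Line a ≤ K0 H) (hroot : ∀ c, tv a c ∈ ⁅K0 H, K0 H⁆) : False := by
  obtain ⟨eps, he⟩ := eps_exists (F := F) (k := k)
  refine split_root hR (lam := 1) (eps := eps) (e := -1) he ?_ ?_ ha hroot
  · rw [Units.val_one, one_mul]
    intro h
    exact h2 (by linear_combination (-1 : F) * h)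
  · exact hle ⟨-1, he a⟩

theorem wh_sq (h2 : (2 : F) ≠ 0) {H : Subgroup (Matrix.symplecticGroup (Fin (k + 1)) F)} (hR : NoRt H) :
    Nat.card (Wh H) * Nat.card (Wh H) ≤ Fintype.card F ^ (2 * k) := by
  classical
  have hZ := zh_ne_top H hR
  obtain ⟨x, hx⟩ : ∃ x, x ∉ Zh H := by
    by_contra h
    push Not at h
    exact hZ (eq_top_iff.2 fun x _ => h x)
  obtain ⟨φ, hφ⟩ := AddChar.exists_apply_ne_zero.2 (fun h => hx ((QuotientAddGroup.eq_zero_iff x).1 h) :
    (QuotientAddGroup.mk' (Zh H) x) ≠ 0)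
  let ψ : AddChar F ℂ := φ.compAddMonoidHom (QuotientAddGroup.mk' (Zh H))
  have hψ : ψ ≠ 0 := AddChar.ne_zero_iff.2 ⟨x, hφ⟩
  have hle : Wh H ≤ ann ψ (Wh H) := by
    intro u hu w hw
    have h := bracket_zh hu hw
    have hinj : Function.Injective (fun z : Zh H => (⟨2 * (z : F), by
        rw [two_mul]; exact add_mem z.2 z.2⟩ : Zh H)) := fun a b e =>
      Subtype.ext (mul_left_cancel₀ h2 (congrArg Subtype.val e))
    obtain ⟨z, hz⟩ := (Finite.injective_iff_surjective.1 hinj) ⟨_, h⟩
    have hB : B u w ∈ Zh H := mul_left_cancel₀ h2 (congrArg Subtype.val hz) ▸ z.2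
    show φ (QuotientAddGroup.mk' (Zh H) (B u w)) = 1
    rw [show QuotientAddGroup.mk' (Zh H) (B u w) = 0 from (QuotientAddGroup.eq_zero_iff _).2 hB,
      AddChar.map_zero_eq_one]
  rw [← card_ann hψ (Wh H)]
  exact Nat.mul_le_mul_right _ (AddSubgroup.card_le_of_le hle)

theorem zh_three (h2 : (2 : F) ≠ 0) {H : Subgroup (Matrix.symplecticGroup (Fin (k + 1)) F)} (hR : NoRt H)
    (hq : 3 ≤ Fintype.card F) : 3 * Nat.card (Zh H) ≤ Fintype.card F := by
  by_cases h : Zh H = ⊥
  · rw [h, AddSubgroup.card_bot]; omega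
  · have := zsub_bound (Zh H) (zh_ne_top H hR) (Subgroup.zpowers (-1 : Fˣ)) (fun c hc z hz => by
      obtain ⟨n, rfl⟩ := Subgroup.mem_zpowers_iff.1 hc
      rcases Int.even_or_odd n with hn | hn
      · rw [hn.neg_one_zpow]; simpa using hz
      · rw [hn.neg_one_zpow]; simpa using neg_mem hz) h
    have hc : Nat.card (Subgroup.zpowers (-1 : Fˣ)) = 2 := by
      rw [Nat.card_zpowers]
      refine orderOf_eq_prime (by simp) fun e => h2 ?_
      have e' := congrArg Units.val e
      simp only [Units.val_neg, Units.val_one] at e'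
      linear_combination -e'
    rw [hc] at this
    linarith

theorem zh_lt {H : Subgroup (Matrix.symplecticGroup (Fin (k + 1)) F)} (hR : NoRt H) :
    Nat.card (Zh H) < 2 * (Sc H).index := by
  classical
  have hd : 0 < (Sc H).index := Nat.pos_of_ne_zero Subgroup.index_ne_zero_of_finite
  by_cases h : Zh H = ⊥
  · rw [h, AddSubgroup.card_bot]; omega
  let f : Sc H →* Fˣ := (powMonoidHom 2).comp (Sc H).subtype
  have hb := zsub_bound (Zh H) (zh_ne_top H hR) f.range (fun c hc z hz => by
    obtain ⟨⟨c0, hc0⟩, rfl⟩ := hc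
    obtain ⟨p, hp, rfl⟩ := hc0
    have := act_zh hp hz
    simpa [f] using this) h
  have hker : Nat.card f.ker ≤ 2 := by
    refine (Nat.card_le_card_of_injective (fun x : f.ker => if ((x.1.1 : Fˣ) : F) = 1 then true else false)
      ?_).trans (le_of_eq (by simp))
    intro x y hxy
    have key : ∀ x : f.ker, ((x.1.1 : Fˣ) : F) = 1 ∨ ((x.1.1 : Fˣ) : F) = -1 := fun x => by
      have := congrArg Units.val (MonoidHom.mem_ker.1 x.2)
      simp [f] at this
      rcases this with h | h
      · exact Or.inl (by rw [h]; simp)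
      · exact Or.inr (by rw [h]; simp)
    apply Subtype.ext; apply Subtype.ext; apply Units.ext
    rcases key x with hx | hx <;> rcases key y with hy | hy <;> rw [hx, hy]
    · by_contra hne
      simp [hx, hy, Ne.symm hne] at hxy
    · by_contra hne
      simp [hx, hy, hne] at hxy
  have h1 := f.ker.card_mul_index
  rw [Subgroup.index_ker] at h1
  have h2 := (Sc H).card_mul_index
  rw [Nat.card_units, Nat.card_eq_fintype_card (α := F)] at h2
  by_contra hle
  push Not at hle
  have h3 : Nat.card (Sc H) * (2 * (Sc H).index) ≤ Nat.card f.ker * Nat.card f.range * Nat.card (Zh H) := by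
    rw [h1]; exact Nat.mul_le_mul_left _ hle
  have h4 : Nat.card f.ker * Nat.card f.range * Nat.card (Zh H) ≤ 2 * (Fintype.card F - Nat.card (Zh H)) := by
    rw [mul_assoc]
    refine Nat.mul_le_mul hker ?_
    rw [Nat.mul_add, mul_one] at hb
    rw [mul_comm]
    omega
  have h5 : 2 ≤ Nat.card (Zh H) := AddSubgroup.one_lt_card_iff_ne_bot _ |>.2 h
  rw [show Nat.card (Sc H) * (2 * (Sc H).index) = 2 * (Fintype.card F - 1) by rw [← h2]; ring] at h3
  have := h3.trans h4
  have hF1 : 1 < Fintype.card F := Fintype.one_lt_card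
  omega

theorem index_ne_two (h2 : (2 : F) ≠ 0) (K : Subgroup Gl) : K.index ≠ 2 := by
  intro h
  have hT : K = ⊤ := eq_top_of_rt fun v c => by
    have h' := Subgroup.mul_self_mem_of_index_two h (tv v (c / 2))
    haveI : NeZero (2 : F) := ⟨h2⟩
    rwa [tv_add, add_halves] at h'
  rw [hT, Subgroup.index_top] at h
  omega

/-- The step for `Sp_4(q)`. -/
theorem odd_base (h2 : (2 : F) ≠ 0) {H : Subgroup (Matrix.symplecticGroup (Fin (1 + 1)) F)} (hR : NoRt H)
    (hq : 3 ≤ Fintype.card F) : oddBd (Fintype.card F) (1 + 1) ≤ H.index := by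
  classical
  set q := Fintype.card F with hqdef
  set n := H.index
  set K := K0 H
  have hd : 1 ≤ (Sc H).index := Nat.pos_of_ne_zero Subgroup.index_ne_zero_of_finite
  have hi : 1 ≤ K.index := Nat.pos_of_ne_zero Subgroup.index_ne_zero_of_finite
  have hw : Nat.card (Wh H) ≤ q := by
    have := wh_sq h2 hR
    rw [show 2 * 1 = 2 from rfl, pow_two] at this
    exact Nat.mul_self_le_mul_self_iff.1 this
  have hw0 : 0 < Nat.card (Wh H) := Nat.card_pos
  have hz0 : 0 < Nat.card (Zh H) := Nat.card_pos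
  have hmain := main_ineq H
  rw [show 2 * 1 = 2 from rfl] at hmain
  have hinv : ∀ g ∈ K, ∀ w ∈ Wh H, g.1 *ᵥ w ∈ Wh H := fun g hg w hw => by
    have := act_wh (p := (1, g)) hg hw
    simpa using this
  have hline : ∀ a b : Fin 1 ⊕ Fin 1 → F, a ≠ 0 → B a b = 0 → ∃ c : F, b = c • a := by
    intro a b ha hB
    rw [B_sum, Fin.sum_univ_one] at hB
    by_cases h1 : a (Sum.inl 0) = 0
    · have h3 : a (Sum.inr 0) ≠ 0 := fun h => ha (funext fun i => by
        rcases i with i | i <;> rw [Fin.fin_one_eq_zero i] <;> assumption)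
      refine ⟨b (Sum.inr 0) / a (Sum.inr 0), funext fun i => ?_⟩
      rcases i with i | i <;> rw [Fin.fin_one_eq_zero i] <;> simp only [Pi.smul_apply, smul_eq_mul]
      · rw [h1, zero_mul, sub_zero] at hB
        rw [h1, mul_zero]
        exact (mul_eq_zero.1 hB).resolve_left h3
      · rw [div_mul_cancel₀ _ h3]
    · refine ⟨b (Sum.inl 0) / a (Sum.inl 0), funext fun i => ?_⟩
      rcases i with i | i <;> rw [Fin.fin_one_eq_zero i] <;> simp only [Pi.smul_apply, smul_eq_mul]
      · rw [div_mul_cancel₀ _ h1]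
      · field_simp
        linear_combination -hB
  -- the small field
  by_cases h3 : q = 3
  · have hz1 : Nat.card (Zh H) = 1 := by
      have := zh_three h2 hR hq
      omega
    rw [oddBd, if_pos ⟨rfl, h3⟩]
    rw [hz1, mul_one, ← hqdef, h3] at hmain
    rw [h3] at hw
    by_cases hK : K.index = 1
    · have hWb : Wh H = ⊥ := by
        by_contra hne
        obtain ⟨a, ha, ha0⟩ : ∃ a, a ∈ Wh H ∧ a ≠ 0 := by
          by_contra hc
          push Not at hc
          exact hne (eq_bot_iff.2 fun x hx => hc x hx)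
        have hall : Wh H = ⊤ := eq_top_iff.2 fun x _ => by
          by_cases hx : x = 0
          · rw [hx]; exact zero_mem _
          · obtain ⟨g, hg⟩ := transitive ha0 hx
            rw [← hg]
            exact hinv g (Subgroup.index_eq_one.1 hK ▸ Subgroup.mem_top g) a ha
        rw [hall, AddSubgroup.card_top, Nat.card_eq_fintype_card] at hw
        simp [h3, hqdef] at hw
        rw [← hqdef, h3] at hw
        omega
      rw [hWb, AddSubgroup.card_bot, mul_one] at hmain
      nlinarith
    · have := index_ne_two h2 K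
      have hi3 : 3 ≤ K.index := by omega
      nlinarith
  have h4 : 4 ≤ q := by omega
  have hnotop : K ≠ ⊤ := fun e => by
    have ha : (bas (Sum.inl 0) : Fin 1 ⊕ Fin 1 → F) ≠ 0 := fun h => by simpa [bas] using congrFun h (Sum.inl 0)
    refine odd_root h2 hR ha (show Line _ ≤ K0 H from le_top.trans e.ge) fun c => ?_
    rw [show K0 H = ⊤ from e]
    exact tv_mem_comm_top (SympSimple.perfect_fintype (Or.inr (Or.inr h4))) _ c
  have hi3 : 3 ≤ K.index := by
    have := index_ne_two h2 K
    have : K.index ≠ 1 := fun e => hnotop (Subgroup.index_eq_one.1 e)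
    omega
  have hkey : 2 * (q + 1) * q * Nat.card (Wh H) ≤ K.index * q ^ 2 := by
    by_cases hWb : Wh H = ⊥
    · rw [hWb, AddSubgroup.card_bot]
      calc 2 * (q + 1) * q * 1 ≤ 3 * q ^ 2 := by nlinarith
        _ ≤ _ := Nat.mul_le_mul_right _ hi3
    obtain ⟨a, ha, ha0⟩ : ∃ a, a ∈ Wh H ∧ a ≠ 0 := by
      by_contra hc
      push Not at hc
      exact hWb (eq_bot_iff.2 fun x hx => hc x hx)
    by_cases hL : ∀ w ∈ Wh H, B a w = 0
    · have hKL : K ≤ Line a := fun g hg => hline a _ ha0 (hL _ (hinv g hg a ha))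
      have hne : K ≠ Line a := fun e => by
        refine odd_root h2 hR ha0 (show Line a ≤ K0 H from e.ge) fun c => ?_
        exact line_comm ha0 (exists_sq_ne rfl h4) e.ge c
      have h5 := Subgroup.relIndex_mul_index hKL
      have h6 : 2 ≤ K.relIndex (Line a) := by
        have h7 : K.relIndex (Line a) ≠ 1 := fun e => hne (le_antisymm hKL (Subgroup.relIndex_eq_one.1 e))
        have h8 : K.relIndex (Line a) ≠ 0 := by
          intro e
          rw [e, zero_mul] at h5
          omega
        omega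
      have h9 := line_index hq le_rfl ha0
      rw [show npts q 1 = q + 1 by simp [npts]] at h9
      have h10 : 2 * (q + 1) ≤ K.index := h5 ▸ Nat.mul_le_mul h6 h9
      calc 2 * (q + 1) * q * Nat.card (Wh H) ≤ K.index * q * q := Nat.mul_le_mul (Nat.mul_le_mul_right _ h10) hw
        _ = _ := by ring
    · push Not at hL
      obtain ⟨w, hwW, haw⟩ := hL
      set β := B a w
      let T : F → Set ((Fin 1 ⊕ Fin 1 → F) × (Fin 1 ⊕ Fin 1 → F)) := fun b =>
        {p | p.1 ∈ Wh H ∧ p.2 ∈ Wh H ∧ B p.1 p.2 = b}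
      have hpair := card_le_index_mul (fun (g : Matrix.symplecticGroup (Fin 1) F) p => (g.1 *ᵥ p.1, g.1 *ᵥ p.2))
        (fun g h p => by simp only [SympGen.mul_apply]) K {p | B p.1 p.2 = β} (T β)
        (fun g hg p hp => ⟨hinv g hg _ hp.1, hinv g hg _ hp.2.1, (B_map g _ _).trans hp.2.2⟩)
        (a0 := (a, w)) ⟨ha, hwW, rfl⟩ (fun p hp => by
          obtain ⟨g, -, h1, h2', -⟩ := SympGen.pair (e := a) (f := β⁻¹ • w) (e' := p.1) (f' := β⁻¹ • p.2)
            (by rw [B_smul_right]; exact inv_mul_cancel₀ haw)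
            (by rw [B_smul_right, hp]; exact inv_mul_cancel₀ haw)
          refine ⟨g, Prod.ext h1 ?_⟩
          rw [Matrix.mulVec_smul] at h2'
          exact smul_right_injective _ (inv_ne_zero haw) h2')
      have hA : ({p : (Fin 1 ⊕ Fin 1 → F) × (Fin 1 ⊕ Fin 1 → F) | B p.1 p.2 = β}).ncard * q =
          (q ^ 2 - 1) * q ^ 2 := by
        have h := card_hyp (⊤ : Submodule F (Fin 1 ⊕ Fin 1 → F)) top_inf_perp
        have hc : Nat.card (⊤ : Submodule F (Fin 1 ⊕ Fin 1 → F)) = q ^ 2 := by
          rw [Module.natCard_eq_pow_finrank (K := F) (V := (⊤ : Submodule F (Fin 1 ⊕ Fin 1 → F))), finrank_top, Nat.card_eq_fintype_card]; simp [hqdef]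
        rw [hc] at h
        rw [← h]
        congr 1
        rw [← Set.ncard_image_of_injective (hyp ⊤) (f := fun p : (Fin 1 ⊕ Fin 1 → F) × (Fin 1 ⊕ Fin 1 → F) =>
          (p.1, β • p.2)) fun p p' e => by
            simp only [Prod.mk.injEq] at e
            exact Prod.ext e.1 (smul_right_injective _ haw e.2)]
        congr 1
        ext p
        constructor
        · intro hp
          refine ⟨(p.1, β⁻¹ • p.2), ⟨trivial, trivial, ?_⟩, ?_⟩
          · rw [B_smul_right, show B p.1 p.2 = β from hp, inv_mul_cancel₀ haw]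
          · simp [smul_smul, mul_inv_cancel₀ haw]
        · rintro ⟨p', ⟨-, -, hp'⟩, rfl⟩
          show B p'.1 (β • p'.2) = β
          rw [B_smul_right, hp', mul_one]
      have hT : 2 * (T β).ncard ≤ (Nat.card (Wh H) - 1) * Nat.card (Wh H) := by
        have e : (T (-β)).ncard = (T β).ncard := by
          rw [← Set.ncard_image_of_injective (T β) (f := Prod.swap) Prod.swap_injective]
          congr 1
          ext p
          constructor
          · rintro ⟨h1, h2', h3'⟩
            exact ⟨(p.2, p.1), ⟨h2', h1, by rw [B_swap, h3', neg_neg]⟩, rfl⟩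
          · rintro ⟨p', ⟨h1, h2', h3'⟩, rfl⟩
            exact ⟨h2', h1, by show B p'.2 p'.1 = _; rw [B_swap, h3']⟩
        have hd' : Disjoint (T β) (T (-β)) := Set.disjoint_left.2 fun p hp hp' => by
          have := hp.2.2.symm.trans hp'.2.2
          exact haw ((mul_eq_zero.1 (show (2 : F) * β = 0 by linear_combination this)).resolve_left h2)
        have hu := Set.ncard_union_eq hd' (Set.toFinite _) (Set.toFinite _)
        have hsub : T β ∪ T (-β) ⊆ ((Wh H : Set (Fin 1 ⊕ Fin 1 → F)) \ {0}) ×ˢ (Wh H : Set (Fin 1 ⊕ Fin 1 → F)) := by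
          intro p hp
          rcases hp with ⟨h1, h2', h3'⟩ | ⟨h1, h2', h3'⟩ <;>
            refine ⟨⟨h1, fun e' => haw ?_⟩, h2'⟩ <;>
            · rw [Set.mem_singleton_iff.1 e'] at h3'
              simp [B] at h3'
              first | exact h3'.symm | exact neg_eq_zero.1 h3'.symm | exact h3'
        have := Set.ncard_le_ncard hsub (Set.toFinite _)
        rw [hu, e, Set.ncard_prod, Set.ncard_sdiff_singleton_of_mem (zero_mem (Wh H))] at this
        rw [← Nat.card_coe_set_eq] at this
        calc 2 * (T β).ncard = (T β).ncard + (T β).ncard := by ring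
          _ ≤ _ := this
      have h8 : 2 * ((q ^ 2 - 1) * q) ≤ K.index * ((Nat.card (Wh H) - 1) * Nat.card (Wh H)) := by
        have hqq : ({p : (Fin 1 ⊕ Fin 1 → F) × (Fin 1 ⊕ Fin 1 → F) | B p.1 p.2 = β}).ncard = (q ^ 2 - 1) * q :=
          Nat.eq_of_mul_eq_mul_right (show 0 < q by omega) (by rw [hA]; ring)
        rw [← hqq]
        calc _ ≤ 2 * (K.index * (T β).ncard) := Nat.mul_le_mul_left _ hpair
          _ = K.index * (2 * (T β).ncard) := by ring
          _ ≤ _ := Nat.mul_le_mul_left _ hT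
      obtain ⟨r, hr⟩ : ∃ r, q = r + 1 := ⟨q - 1, by omega⟩
      obtain ⟨s, hs⟩ : ∃ s, Nat.card (Wh H) = s + 1 := ⟨Nat.card (Wh H) - 1, by omega⟩
      rw [hs] at h8 hw ⊢
      rw [hr] at h8 hw ⊢
      rw [show (r + 1) ^ 2 = r * (r + 2) + 1 by ring, Nat.add_sub_cancel, Nat.add_sub_cancel] at h8
      have hs1 : s ≤ r := by omega
      have hsp : 0 < s * (s + 1) := by
        rcases Nat.eq_zero_or_pos s with h | h
        · rw [h, zero_mul, mul_zero] at h8
          have : 0 < r := by omega
          have : 0 < 2 * (r * (r + 2) * (r + 1)) := by positivity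
          omega
        · positivity
      refine Nat.le_of_mul_le_mul_right ?_ hsp
      calc 2 * (r + 1 + 1) * (r + 1) * (s + 1) * (s * (s + 1))
          ≤ 2 * (r + 1 + 1) * (r + 1) * (r + 1) * (r * (r + 1)) := by gcongr
        _ = 2 * (r * (r + 2) * (r + 1)) * (r + 1) ^ 2 := by ring
        _ ≤ K.index * (s * (s + 1)) * (r + 1) ^ 2 := Nat.mul_le_mul_right _ h8
        _ = _ := by ring
  -- conclusion
  have hzd := zh_lt hR
  have hzq : Nat.card (Zh H) ≤ q ^ 2 := by
    have := zh_three h2 hR hq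
    nlinarith
  rw [oddBd, if_neg (fun h => h3 h.2), show npts q (1 + 1) = q ^ 2 * (q + 1) + q + 1 by simp [npts]]
  set d := (Sc H).index
  set z := Nat.card (Zh H)
  set w := Nat.card (Wh H)
  refine Nat.le_of_mul_le_mul_right ?_ (Nat.mul_pos hw0 hz0)
  calc (q ^ 2 * (q + 1) + q + 1) * (w * z) = w * (q + 1) * (q ^ 2 * z + z) := by ring
    _ ≤ w * (q + 1) * (q ^ 2 * z + q ^ 2) := by gcongr
    _ = w * (q + 1) * q ^ 2 * (z + 1) := by ring
    _ ≤ w * (q + 1) * q ^ 2 * (2 * d) := by gcongr; omega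
    _ = d * (2 * (q + 1) * q * w) * q := by ring
    _ ≤ d * (K.index * q ^ 2) * q := by gcongr
    _ = d * K.index * (q ^ 2 * q) := by ring
    _ ≤ _ := hmain

/-- The step for larger dimensions. -/
theorem odd_step (h2 : (2 : F) ≠ 0) (hk : 2 ≤ k) (hq : 3 ≤ Fintype.card F)
    (ih : ∀ K : Subgroup Gl, K ≠ ⊤ → oddBd (Fintype.card F) k ≤ K.index)
    {H : Subgroup (Matrix.symplecticGroup (Fin (k + 1)) F)} (hR : NoRt H) :
    oddBd (Fintype.card F) (k + 1) ≤ H.index := by
  classical
  set q := Fintype.card F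
  have hnotop : K0 H ≠ ⊤ := fun e => by
    have ha : (bas (Sum.inl ⟨0, by omega⟩) : Vl) ≠ 0 := fun h => by
      simpa [bas] using congrFun h (Sum.inl ⟨0, by omega⟩)
    refine odd_root h2 hR ha (le_top.trans e.ge) fun c => ?_
    rw [e]
    refine tv_mem_comm_top (SympSimple.perfect_fintype ?_) _ c
    omega
  have hi := ih _ hnotop
  have hw : Nat.card (Wh H) ≤ q ^ k := by
    have := wh_sq h2 hR
    rw [two_mul, pow_add] at this
    exact Nat.mul_self_le_mul_self_iff.1 this
  have hz := zh_three h2 hR hq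
  have hd : 1 ≤ (Sc H).index := Nat.pos_of_ne_zero Subgroup.index_ne_zero_of_finite
  have h1 : 3 * (K0 H).index * q ^ k ≤ H.index := by
    refine Nat.le_of_mul_le_mul_right ?_ (pow_pos (show 0 < q by omega) (k + 1))
    calc 3 * (K0 H).index * q ^ k * q ^ (k + 1) = 3 * (1 * (K0 H).index * (q ^ (2 * k) * q)) := by ring
      _ ≤ 3 * ((Sc H).index * (K0 H).index * (q ^ (2 * k) * q)) := by gcongr
      _ ≤ 3 * (H.index * (Nat.card (Wh H) * Nat.card (Zh H))) := Nat.mul_le_mul_left _ (main_ineq H)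
      _ = H.index * (Nat.card (Wh H) * (3 * Nat.card (Zh H))) := by ring
      _ ≤ H.index * (q ^ k * q) := by gcongr
      _ = _ := by ring
  refine le_trans ?_ ((Nat.mul_le_mul_right _ (Nat.mul_le_mul_left _ hi)).trans h1)
  have hq2 : q ^ 2 ≤ q ^ k := Nat.pow_le_pow_right (by omega) hk
  rw [oddBd, if_neg (fun h => by omega), oddBd]
  split_ifs with h
  · rw [h.1, h.2]; decide
  · obtain ⟨l, rfl⟩ : ∃ l, k = l + 1 := ⟨k - 1, by omega⟩
    have hN := lt_npts_succ q l
    rw [npts]
    nlinarith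

/-- The minimal index for odd `q`. -/
theorem odd_bound (h2 : (2 : F) ≠ 0) (hq : 3 ≤ Fintype.card F) :
    ∀ m, 2 ≤ m → ∀ H : Subgroup (Matrix.symplecticGroup (Fin m) F), H ≠ ⊤ →
      oddBd (Fintype.card F) m ≤ H.index := by
  intro m hm
  induction m, hm using Nat.le_induction with
  | base =>
    intro H hH
    by_cases hR : NoRt H
    · exact odd_base h2 hR hq
    · simp only [NoRt, not_forall, not_not] at hR
      obtain ⟨v, hv, hR⟩ := hR
      refine le_trans ?_ (root_bound hq hH hv hR)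
      rw [oddBd]
      split_ifs with h
      · rw [h.2]; decide
      · exact le_rfl
  | succ n hn ih =>
    intro H hH
    by_cases hR : NoRt H
    · exact odd_step h2 hn hq ih hR
    · simp only [NoRt, not_forall, not_not] at hR
      obtain ⟨v, hv, hR⟩ := hR
      refine le_trans ?_ (root_bound hq hH hv hR)
      rw [oddBd, if_neg (by omega)]

end CfsgLib.SpMin
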