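import Mathlib
import Cfsg.Agent.Lib.SpMin.Tools

/-! The minimal index of `Sp_{2m}(q)`, `q` even. -/

set_option autoImplicit false
set_option maxHeartbeats 800000

namespace CfsgLib.SpMin

open Matrix
open CfsgLib.SympTransvection (tv transitive exists_dot_ne)
open CfsgLib.SympGen
open CfsgLib.SympSimple (ext_apply mulVec_ne_zero exists_perp_ne)
open scoped commutatorElement

section
variable {F : Type*} [Field F] {m : ℕ}

local notation "Vec" => (Fin m ⊕ Fin m → F)
local notation "Sp" => Matrix.symplecticGroup (Fin m) F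

theorem step_o (h2 : (2 : F) = 0) {H : Subgroup Sp} (hO : ∀ v : Vec, v ≠ 0 → TypeO H v) {v w : Vec}
    (hv : v ≠ 0) (hind : ∀ c : F, w ≠ c • v) (hvw : B v w = 0) {γ g : F} (hx : qe w (γ • v) g ∈ H) (β : F) :
    qe v ((g * β) • w) (g * β ^ 2) ∈ H := by
  obtain ⟨z1, hz1, hz2⟩ := exists_perp_ne hv hind
  have hwz : B w z1 ≠ 0 := by rw [B_swap]; exact neg_ne_zero.2 hz2
  obtain ⟨z, hz⟩ := hO v hv ((β / B w z1) • z1) (by rw [B_smul_right, B_swap v, hz1, neg_zero, mul_zero])
  have hu : B v ((β / B w z1) • z1) = 0 := by rw [B_smul_right, B_swap v, hz1, neg_zero, mul_zero]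
  have hwv : B w v = 0 := by rw [B_swap, hvw, neg_zero]
  have h := mul_mem (inv_mem hx) (mul_mem (mul_mem hz hx) (inv_mem hz))
  rw [conj_qe, Matrix.mulVec_smul, qe_apply hu, qe_apply hu, hu, B_self, hwv,
    show B w ((β / B w z1) • z1) = β by rw [B_smul_right, div_mul_cancel₀ _ hwz]] at h
  simp only [zero_smul, add_zero, mul_zero] at h
  have e : qe (w + β • v) (γ • v) g = qe w (γ • v) g * qe v ((g * β) • w) (g * β ^ 2) := by
    apply ext_apply
    intro x
    have e1 : B w (γ • v) = 0 := by rw [B_smul_right, hwv, mul_zero]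
    rw [SympGen.mul_apply,
      qe_apply (show B (w + β • v) (γ • v) = 0 by
        rw [B_add_left, e1, B_smul_left, B_smul_right, B_self, mul_zero, mul_zero, add_zero]),
      qe_apply (show B v ((g * β) • w) = 0 by rw [B_smul_right, hvw, mul_zero]), qe_apply e1]
    simp only [B_add_left, B_add_right, B_smul_left, B_smul_right, B_self, hvw, hwv]
    have e2 : ((2 : F) * (β * γ * B x v)) • v = 0 := by rw [h2, zero_mul, zero_smul]
    linear_combination (norm := module) e2
  rw [e, inv_mul_cancel_left] at h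
  exact h

variable [Fintype F]

theorem exists_sqrt (h2 : (2 : F) = 0) (x : F) : ∃ y : F, y ^ 2 = x := by
  have hc : ringChar F = 2 := CharP.ringChar_of_prime_eq_zero Nat.prime_two (by exact_mod_cast h2)
  obtain ⟨y, hy⟩ := FiniteField.isSquare_of_char_two hc x
  exact ⟨y, by rw [hy, pow_two]⟩

theorem typeO_pair (h2 : (2 : F) = 0) (hq : 4 ≤ Fintype.card F) {H : Subgroup Sp} (hR : NoRt H)
    (hO : ∀ v : Vec, v ≠ 0 → TypeO H v) {v w : Vec} (hv : v ≠ 0) (hw : w ≠ 0)
    (hvw' : ∀ c : F, w ≠ c • v) (hwv' : ∀ c : F, v ≠ c • w) (hvw : B v w = 0) (γ : F) :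
    qe w (γ • v) 0 ∈ H := by
  classical
  have hwv : B w v = 0 := by rw [B_swap, hvw, neg_zero]
  obtain ⟨g, hg⟩ := hO w hw (γ • v) (by rw [B_smul_right, hwv, mul_zero])
  by_cases hg0 : g = 0
  · rwa [hg0] at hg
  exfalso
  apply hR w hw
  have hall : ∀ g' β : F, g' ≠ 0 → qe w ((g' * β) • v) (g' * β ^ 2) ∈ H := by
    intro g' β hg'
    obtain ⟨μ, hμ⟩ := exists_sqrt h2 (g' * g)
    have h1 := step_o h2 hO hv hvw' hvw hg (μ / g)
    rw [show g * (μ / g) ^ 2 = g' by rw [div_pow, hμ]; field_simp] at h1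
    exact step_o h2 hO hw hwv' hwv h1 β
  obtain ⟨s, hs⟩ : ∃ s, s ∉ ({0, 1} : Finset F) := by
    by_contra h
    push Not at h
    have := (Finset.card_le_card (fun x _ => h x : Finset.univ ⊆ ({0, 1} : Finset F))).trans Finset.card_le_two
    rw [Finset.card_univ] at this
    omega
  have hs0 : s ≠ 0 := fun e => hs (by simp [e])
  have hs1 : 1 + s⁻¹ ≠ 0 := fun e => hs (by
    have : s = 1 := by
      have e' : s + 1 = 0 := by
        have := congrArg (fun x => s * x) e
        simp only [mul_add, mul_one, mul_inv_cancel₀ hs0, mul_zero] at this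
        exact this
      linear_combination e' - h2
    simp [this])
  intro c
  obtain ⟨μ, hμ⟩ := exists_sqrt h2 (c / (1 + s⁻¹))
  have h3 := mul_mem (hall 1 μ one_ne_zero) (hall s (μ / s) hs0)
  have e1 : B w (μ • v) = 0 := by rw [B_smul_right, hwv, mul_zero]
  rw [one_mul, one_mul, mul_div_cancel₀ _ hs0, qe_mul e1 e1, ← two_smul F (μ • v), h2, zero_smul, qe_zero_left,
    B_self, add_zero] at h3
  convert h3 using 2
  have hμ' : c = μ ^ 2 * (1 + s⁻¹) := by rw [hμ, div_mul_cancel₀ _ hs1]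
  rw [hμ']
  field_simp

end

variable {F : Type*} [Field F] [Fintype F] {k : ℕ}

local notation "Vl" => (Fin k ⊕ Fin k → F)
local notation "Gl" => Matrix.symplecticGroup (Fin k) F
local notation "Gb" => Matrix.symplecticGroup (Fin (k + 1)) F

theorem not_all_typeO (h2 : (2 : F) = 0) (hq : 4 ≤ Fintype.card F) (hk : 1 ≤ k)
    {H : Subgroup (Matrix.symplecticGroup (Fin (k + 1)) F)} (hR : NoRt H) :
    ∃ v : Fin (k + 1) ⊕ Fin (k + 1) → F, v ≠ 0 ∧ ¬ TypeO H v := by
  by_contra hO
  push Not at hO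
  have key : ∀ u : Vl, u ≠ 0 → sg u 0 ∈ H := by
    intro u hu
    have hi : inc u ≠ 0 := fun h => hu (by rw [← pr_inc u, h]; rfl)
    have := typeO_pair h2 hq hR hO (v := inc u) (w := e0) hi e0_ne
      (fun c h => by
        have := congrFun h (Sum.inl 0)
        simp [inc_l, bas] at this)
      (fun c h => by
        apply hu
        rw [← pr_inc u, h, pr_smul, pr_e0, smul_zero])
      (by rw [B_e0, inc_r]) 1
    rwa [one_smul] at this
  apply hR e0 e0_ne
  intro c
  by_cases hc : c = 0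
  · rw [hc, SympSimple.tv_zero]; exact one_mem H
  let a : Vl := bas (Sum.inl ⟨0, by omega⟩)
  let a' : Vl := c • bas (Sum.inr ⟨0, by omega⟩)
  have hB : B a' a = c := by
    show B (c • bas (Sum.inr (⟨0, by omega⟩ : Fin k))) (bas (Sum.inl (⟨0, by omega⟩ : Fin k))) = c
    rw [B_smul_left, B_bas_inl_inr, if_pos rfl, mul_one]
  have ha : a ≠ 0 := fun h => hc (by rw [← hB, h]; simp [B])
  have ha' : a' ≠ 0 := fun h => hc (by rw [← hB, h]; simp [B])
  have hs : a + a' ≠ 0 := fun h => hc (by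
    rw [← hB, show a' = -a from eq_neg_of_add_eq_zero_right h, ← neg_one_smul F a, B_smul_left, B_self, mul_zero])
  have h3 := mul_mem (inv_mem (key _ hs)) (mul_mem (key a ha) (key a' ha'))
  rw [sg_mul, sg_inv, sg_mul, neg_add_cancel, sg_zero, hB] at h3
  convert h3 using 2
  rw [← neg_one_smul F (a + a'), B_smul_right, B_self, mul_zero]
  ring

theorem nonO_bound (h2 : (2 : F) = 0) (hq : 4 ≤ Fintype.card F) (hk : 1 ≤ k)
    (ih : ∀ K : Subgroup Gl, K ≠ ⊤ → npts (Fintype.card F) k ≤ K.index)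
    {H : Subgroup (Matrix.symplecticGroup (Fin (k + 1)) F)} (hR : NoRt H)
    (hO : ¬ TypeO H (e0 : Fin (k + 1) ⊕ Fin (k + 1) → F)) : npts (Fintype.card F) (k + 1) ≤ H.index := by
  classical
  set q := Fintype.card F with hqdef
  set n := H.index
  set K := K0 H
  set d := (Sc H).index
  set N := npts q k with hN
  have hNspec := npts_spec (q := q) (by omega) k
  have hN1 : q + 1 ≤ N := by
    obtain ⟨l, rfl⟩ : ∃ l, k = l + 1 := ⟨k - 1, by omega⟩
    exact lt_npts_succ q l
  have hd : 1 ≤ d := Nat.pos_of_ne_zero Subgroup.index_ne_zero_of_finite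
  have hqeven : Even q := by
    have hc : ringChar F = 2 := CharP.ringChar_of_prime_eq_zero Nat.prime_two (by exact_mod_cast h2)
    exact Nat.even_iff.2 (FiniteField.even_card_of_char_two hc)
  obtain ⟨x0, hx0, hx02⟩ := SympSimple.field_cond (F := F) hq
  obtain ⟨φ, hφ⟩ := (AddChar.exists_apply_ne_zero (a := (1 : F))).2 one_ne_zero
  have hψ : φ ≠ 0 := AddChar.ne_zero_iff.2 ⟨1, hφ⟩
  set A := ann φ (Wh H) with hA
  have hcard := card_ann hψ (Wh H)
  rw [← hA, ← hqdef] at hcard
  have hw0 : 0 < Nat.card (Wh H) := Nat.card_pos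
  have hWtop : Wh H ≠ ⊤ := by
    intro e
    apply hO
    intro u hu
    have hur : u (Sum.inr 0) = 0 := by rwa [B_swap, B_e0, neg_eq_zero] at hu
    obtain ⟨z, hz⟩ : pr u ∈ Wh H := e ▸ AddSubgroup.mem_top _
    refine ⟨z, ?_⟩
    have hdec : u = inc (pr u) + u (Sum.inl 0) • e0 := by
      conv_lhs => rw [split_vec u, hur, zero_smul, add_zero, add_comm]
    rw [hdec, qe_add_line (e0_inc _), h2, zero_mul, add_zero]
    exact hz
  have hA1 : A ≠ ⊥ := by
    intro e
    apply hWtop
    rw [e, AddSubgroup.card_bot, one_mul] at hcard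
    exact AddSubgroup.eq_top_of_card_eq _ (by rw [hcard, Nat.card_eq_fintype_card]; simp [two_mul, hqdef])
  obtain ⟨a, haA, ha0⟩ : ∃ a, a ∈ A ∧ a ≠ 0 := by
    by_contra hc
    push Not at hc
    exact hA1 (eq_bot_iff.2 fun x hx => hc x hx)
  have hinv : ∀ g ∈ K, ∀ y ∈ A, g.1 *ᵥ y ∈ A := by
    intro g hg y hy w hw
    have hw' := act_wh (p := (1, g⁻¹)) (inv_mem (show ((1, g) : Fˣ × Gl) ∈ Rg H from hg) |> fun h => by simpa using h) hw
    rw [Units.val_one, one_smul] at hw'
    rw [← B_map g⁻¹, ← SympGen.mul_apply, inv_mul_cancel, SympGen.one_apply]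
    exact hy _ hw'
  have hmain := main_ineq H
  rw [← hqdef] at hmain
  -- the inequality after cancelling `W`
  have hmain' : d * K.index * (Nat.card A * q) ≤ n * Nat.card (Zh H) := by
    refine Nat.le_of_mul_le_mul_right ?_ hw0
    calc d * K.index * (Nat.card A * q) * Nat.card (Wh H)
        = d * K.index * (Nat.card A * Nat.card (Wh H) * q) := by ring
      _ ≤ n * (Nat.card (Wh H) * Nat.card (Zh H)) := by rw [hcard]; exact hmain
      _ = _ := by ring
  have hnpts : npts q (k + 1) = q ^ 2 * N + q + 1 := rfl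
  rw [hnpts]
  have hz0 : 0 < Nat.card (Zh H) := Nat.card_pos
  -- the scalar element
  have hsplit : ∀ lam : Fˣ, lam ≠ 1 → (lam, (1 : Gl)) ∈ Rg H → ∀ b : Vl, b ≠ 0 → Line b ≤ K → False := by
    intro lam hl hmem b hb hle
    refine split_root hR (lam := lam) (eps := 1) (e := 1) (fun v => by rw [SympGen.one_apply, one_smul]) ?_ hmem
      hb fun c => line_comm hb ⟨x0, hx0, hx02⟩ hle c
    rw [mul_one]
    exact fun h => hl (Units.ext h)
  by_cases hKtop : K = ⊤
  · have hAall : A = ⊤ := eq_top_iff.2 fun x _ => by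
      by_cases hx : x = 0
      · rw [hx]; exact zero_mem _
      · obtain ⟨g, hg⟩ := transitive ha0 hx
        rw [← hg]
        exact hinv g (hKtop ▸ Subgroup.mem_top g) a haA
    have hsc : Sc H = ⊥ := by
      by_contra hne
      obtain ⟨lam, hl, hl1⟩ := (Subgroup.ne_bot_iff_exists_ne_one.1 hne) |> fun ⟨x, hx⟩ =>
        (⟨x.1, x.2, fun e => hx (Subtype.ext e)⟩ : ∃ lam, lam ∈ Sc H ∧ lam ≠ 1)
      obtain ⟨p, hp, rfl⟩ := hl
      have h1 : ((1, p.2) : Fˣ × Gl) ∈ Rg H := show p.2 ∈ K from hKtop ▸ Subgroup.mem_top _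
      have h3 := mul_mem hp (inv_mem h1)
      refine hsplit p.1 hl1 ?_ a ha0 (hKtop ▸ le_top)
      have e : p * ((1, p.2) : Fˣ × Gl)⁻¹ = (p.1, 1) := Prod.ext (by simp) (by simp)
      rwa [e] at h3
    have hdq : d = q - 1 := by
      show (Sc H).index = _
      rw [hsc, Subgroup.index_bot, Nat.card_units, Nat.card_eq_fintype_card]
    have hAc : Nat.card A = q ^ (2 * k) := by
      rw [hAall, AddSubgroup.card_top, Nat.card_eq_fintype_card]; simp [two_mul, hqdef]
    rw [hKtop, Subgroup.index_top, mul_one, hAc, hdq] at hmain'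
    have hz2 : 2 * Nat.card (Zh H) ≤ q := by
      by_cases h : Zh H = ⊥
      · rw [h, AddSubgroup.card_bot]; omega
      · have := zsub_bound (Zh H) (zh_ne_top H hR) ⊥ (fun c hc z hz => by
          rw [Subgroup.mem_bot.1 hc, Units.val_one, one_mul]; exact hz) h
        rw [Subgroup.card_bot] at this
        linarith
    obtain ⟨r, hr⟩ : ∃ r, q = r + 4 := ⟨q - 4, by omega⟩
    have h5 : (q - 1) * 2 * q ^ (2 * k) ≤ n := by
      refine Nat.le_of_mul_le_mul_right ?_ (show 0 < q by omega)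
      calc (q - 1) * 2 * q ^ (2 * k) * q = 2 * ((q - 1) * (q ^ (2 * k) * q)) := by ring
        _ ≤ 2 * (n * Nat.card (Zh H)) := Nat.mul_le_mul_left _ hmain'
        _ = n * (2 * Nat.card (Zh H)) := by ring
        _ ≤ n * q := Nat.mul_le_mul_left _ hz2
    refine le_trans ?_ h5
    rw [← hNspec, ← hN, hr, show r + 4 - 1 = r + 3 by omega]
    nlinarith [Nat.zero_le (N * r * r), Nat.zero_le (N * r), Nat.zero_le r, Nat.zero_le N]
  have hi : N ≤ K.index := ih K hKtop
  have hAone : 1 < Nat.card A := AddSubgroup.one_lt_card_iff_ne_bot _ |>.2 hA1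
  have horb := orbit_bound K (A : Set Vl) hinv haA ha0
  rw [← hqdef, ← hNspec, Nat.add_sub_cancel, Set.ncard_sdiff_singleton_of_mem (zero_mem A)] at horb
  change N * (q - 1) ≤ K.index * (Nat.card A - 1) at horb
  have hX : q * N ≤ K.index * Nat.card A := by
    rcases le_or_gt q (Nat.card A) with h | h
    · calc q * N = N * q := mul_comm _ _
        _ ≤ _ := Nat.mul_le_mul hi h
    · obtain ⟨s, hs⟩ : ∃ s, Nat.card A = s + 1 := ⟨Nat.card A - 1, by omega⟩
      obtain ⟨r, hr⟩ : ∃ r, q = r + 1 := ⟨q - 1, by omega⟩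
      rw [hs, hr, Nat.add_sub_cancel] at horb
      rw [hs, hr] at h
      rw [hs, hr]
      have hs0 : 0 < s := by omega
      refine Nat.le_of_mul_le_mul_right ?_ hs0
      calc (r + 1) * N * s ≤ N * r * (s + 1) := by nlinarith
        _ ≤ K.index * s * (s + 1) := Nat.mul_le_mul_right _ horb
        _ = _ := by ring
  by_cases hZ : Zh H = ⊥
  swap
  · let f : Sc H →* Fˣ := (powMonoidHom 2).comp (Sc H).subtype
    have hb := zsub_bound (Zh H) (zh_ne_top H hR) f.range (fun c hc z hz => by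
      obtain ⟨⟨c0, hc0⟩, rfl⟩ := hc
      obtain ⟨p, hp, rfl⟩ := hc0
      have := act_zh hp hz
      simpa [f] using this) hZ
    have hf : Function.Injective f := fun x y h => by
      have h' := congrArg Units.val h
      simp [f] at h'
      have : ((x : Fˣ) : F) = ((y : Fˣ) : F) := by
        have h4 : (((x : Fˣ) : F) - ((y : Fˣ) : F)) ^ 2 = 0 := by
          linear_combination h' + (((y : Fˣ) : F) ^ 2 - ((x : Fˣ) : F) * ((y : Fˣ) : F)) * h2
        exact sub_eq_zero.1 (pow_eq_zero_iff (n := 2) (by norm_num) |>.1 h4)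
      exact Subtype.ext (Units.ext this)
    rw [show Nat.card f.range = Nat.card (Sc H) from Nat.card_range_of_injective hf] at hb
    have hcs := (Sc H).card_mul_index
    rw [Nat.card_units, Nat.card_eq_fintype_card (α := F), ← hqdef] at hcs
    have hzd : Nat.card (Zh H) + 1 ≤ d := by
      by_contra hle
      push Not at hle
      have h5 : Nat.card (Sc H) * d ≤ Nat.card (Sc H) * Nat.card (Zh H) := Nat.mul_le_mul_left _ (by omega)
      have h6 : 2 ≤ Nat.card (Zh H) := AddSubgroup.one_lt_card_iff_ne_bot _ |>.2 hZ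
      have h7 : Nat.card (Sc H) * d = q - 1 := hcs
      rw [h7] at h5
      rw [Nat.mul_add, mul_one, mul_comm] at hb
      omega
    have hzq : Nat.card (Zh H) ≤ q := by
      rw [Nat.mul_add, mul_one] at hb
      omega
    refine Nat.le_of_mul_le_mul_right ?_ hz0
    calc (q ^ 2 * N + q + 1) * Nat.card (Zh H) ≤ ((q + 1) * (q * N)) * Nat.card (Zh H) := by
          gcongr; nlinarith
      _ = (q * N) * ((q + 1) * Nat.card (Zh H)) := by ring
      _ ≤ (K.index * Nat.card A) * (q * d) := Nat.mul_le_mul hX (by nlinarith)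
      _ = d * K.index * (Nat.card A * q) := by ring
      _ ≤ _ := hmain'
  rw [hZ, AddSubgroup.card_bot, mul_one] at hmain'
  have hdX : d * q * (K.index * Nat.card A) ≤ n := le_trans (le_of_eq (by ring)) hmain'
  by_cases hd2 : 2 ≤ d
  · calc q ^ 2 * N + q + 1 ≤ 2 * q * (q * N) := by nlinarith
      _ ≤ d * q * (K.index * Nat.card A) := by gcongr
      _ ≤ n := hdX
  have hd1 : d = 1 := by omega
  rw [hd1, one_mul] at hdX
  by_cases hgt : q * N < K.index * Nat.card A
  · have heven : Even (K.index * Nat.card A) := by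
      refine Even.mul_left ?_ _
      have hp : IsPrimePow q := FiniteField.isPrimePow_card F
      obtain ⟨p, f, hpp, hf0, hpf⟩ := (isPrimePow_nat_iff q).1 hp
      have hp2 : p = 2 := by
        have h2q : 2 ∣ p ^ f := hpf ▸ hqeven.two_dvd
        exact ((Nat.prime_dvd_prime_iff_eq Nat.prime_two hpp).1 (Nat.prime_two.dvd_of_dvd_pow h2q)).symm
      have hdvd : Nat.card A ∣ 2 ^ (f * (2 * k)) := ⟨Nat.card (Wh H), by rw [hcard, ← hpf, hp2, ← pow_mul]⟩
      obtain ⟨i, -, hi'⟩ := (Nat.dvd_prime_pow Nat.prime_two).1 hdvd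
      rw [hi']
      exact Nat.even_pow.2 ⟨even_two, fun e => by rw [hi', e, pow_zero] at hAone; omega⟩
    have h8 : q * N + 2 ≤ K.index * Nat.card A := by
      obtain ⟨x, hx⟩ := heven
      obtain ⟨y, hy⟩ := hqeven.mul_right N
      omega
    calc q ^ 2 * N + q + 1 ≤ q * (q * N + 2) := by nlinarith
      _ ≤ q * (K.index * Nat.card A) := Nat.mul_le_mul_left _ h8
      _ ≤ n := hdX
  exfalso
  have heq : K.index * Nat.card A = q * N := le_antisymm (not_lt.1 hgt) hX
  have hAq : Nat.card A = q := by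
    rcases lt_trichotomy (Nat.card A) q with h | h | h
    · exfalso
      obtain ⟨s, hs⟩ : ∃ s, Nat.card A = s + 1 := ⟨Nat.card A - 1, by omega⟩
      obtain ⟨r, hr⟩ : ∃ r, q = r + 1 := ⟨q - 1, by omega⟩
      rw [hs, hr, Nat.add_sub_cancel] at horb
      rw [hs, hr] at heq h
      have h16 : N * r * (s + 1) ≤ (r + 1) * N * s := by
        calc N * r * (s + 1) ≤ K.index * s * (s + 1) := Nat.mul_le_mul_right _ horb
          _ = K.index * (s + 1) * s := by ring
          _ = _ := by rw [heq]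
      have h17 : N * r ≤ N * s := by nlinarith
      have := Nat.le_of_mul_le_mul_left h17 (by omega)
      omega
    · exact h
    · exfalso
      have : N * (q + 1) ≤ K.index * Nat.card A := Nat.mul_le_mul hi h
      nlinarith
  have hiN : K.index = N := by
    rw [hAq] at heq
    exact Nat.eq_of_mul_eq_mul_right (show 0 < q by omega) (heq.trans (mul_comm _ _))
  have hfix : Fix a ≤ K := fix_le K (A : Set Vl) hinv haA ha0 (by
    rw [← hqdef, ← hNspec, Nat.add_sub_cancel, Set.ncard_sdiff_singleton_of_mem (zero_mem A),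
      show ((A : Set Vl)).ncard = Nat.card A from (Nat.card_coe_set_eq _).symm, hiN, hAq])
  have hAline : ∀ u ∈ A, ∃ c : F, u = c • a := by
    intro u hu
    by_contra hne
    push Not at hne
    obtain ⟨z, hza, hzu⟩ := exists_perp_ne ha0 hne
    have hfz : ∀ c : F, c • z ∈ A := by
      intro c
      have hmem : tv z (c / B u z) ∈ Fix a := by
        show (tv z (c / B u z)).1 *ᵥ a = a
        rw [tv_apply, B_swap a z, hza, neg_zero, mul_zero, zero_smul, add_zero]
      have h9 := A.sub_mem (hinv _ (hfix hmem) u hu) hu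
      rwa [tv_apply, add_sub_cancel_left, div_mul_cancel₀] at h9
      rw [B_swap]; exact neg_ne_zero.2 hzu
    have hz0 : z ≠ 0 := fun e => hzu (by rw [e]; simp [B])
    let f : F → A := fun c => ⟨c • z, hfz c⟩
    have hf : Function.Bijective f := (Nat.bijective_iff_injective_and_card f).2
      ⟨fun c c' e => smul_left_injective F hz0 (congrArg Subtype.val e), by rw [hAq, Nat.card_eq_fintype_card]⟩
    obtain ⟨c, hc⟩ := hf.2 ⟨u, hu⟩
    apply hzu
    rw [show u = c • z from (congrArg Subtype.val hc).symm, B_smul_right, B_self, mul_zero]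
  have hAall : ∀ c : F, c • a ∈ A := by
    let f : A → F := fun u => (hAline u u.2).choose
    have hfs : ∀ u : A, (u : Vl) = f u • a := fun u => (hAline u u.2).choose_spec
    have hf : Function.Bijective f := (Nat.bijective_iff_injective_and_card f).2
      ⟨fun u v e => Subtype.ext (by rw [hfs u, hfs v, e]), by rw [hAq, Nat.card_eq_fintype_card]⟩
    intro c
    obtain ⟨u, rfl⟩ := hf.2 c
    rw [← hfs u]; exact u.2
  have hKL : K ≤ Line a := fun g hg => hAline _ (hinv g hg a haA)
  have hLK : Line a ≤ K := by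
    have h10 := Subgroup.relIndex_mul_index hKL
    have h11 := line_index (by omega) hk ha0
    rw [← hqdef, ← hN] at h11
    refine Subgroup.relIndex_eq_one.1 ?_
    rw [hiN] at h10
    have h12 : K.relIndex (Line a) * N ≤ 1 * N := by
      rw [one_mul]
      exact (Nat.mul_le_mul_left _ h11).trans h10.le
    have h13 := Nat.le_of_mul_le_mul_right h12 (by omega)
    have h14 : K.relIndex (Line a) ≠ 0 := fun e => by rw [e, zero_mul] at h10; omega
    omega
  have hperp : ∀ w ∈ Wh H, B a w = 0 := by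
    intro w hw
    by_contra hne
    obtain ⟨t, ht⟩ : ∃ t, φ t ≠ 1 := ⟨1, hφ⟩
    apply ht
    have h15 := hAall (t / B a w) w hw
    rwa [B_smul_left, div_mul_cancel₀ _ hne] at h15
  obtain ⟨lam, hlam⟩ : ∃ lam : Fˣ, lam ≠ 1 :=
    ⟨Units.mk0 x0 hx0, fun e => hx02 (by
      have := congrArg Units.val e
      simp at this
      simp [this])⟩
  have hscT : Sc H = ⊤ := Subgroup.index_eq_one.1 hd1
  obtain ⟨⟨c0, g⟩, hp, rfl⟩ : lam ∈ Sc H := hscT ▸ Subgroup.mem_top lam
  simp only [MonoidHom.coe_fst] at hlam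
  have hg : g ∈ K := hLK (hAline _ (by
    intro w hw
    have hinj : Function.Injective (fun x : Wh H => (⟨_, act_wh hp x.2⟩ : Wh H)) := fun x y e => by
      have e' : (c0 : F) • (g.1 *ᵥ (x : Vl)) = (c0 : F) • (g.1 *ᵥ (y : Vl)) := congrArg Subtype.val e
      have e'' := smul_right_injective Vl c0.ne_zero e'
      exact Subtype.ext (mulVec_inj g e'')
    obtain ⟨x, hx⟩ := (Finite.injective_iff_surjective.1 hinj) ⟨w, hw⟩
    rw [← show (c0 : F) • (g.1 *ᵥ (x : Vl)) = w from congrArg Subtype.val hx, B_smul_right, B_map, hperp _ x.2,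
      mul_zero, AddChar.map_zero_eq_one]))
  refine hsplit c0 hlam ?_ a ha0 hLK
  have h3 := mul_mem hp (inv_mem (show ((1, g) : Fˣ × Gl) ∈ Rg H from hg))
  simpa [Prod.mk_mul_mk, Prod.inv_mk] using h3

theorem even_step (h2 : (2 : F) = 0) (hq : 4 ≤ Fintype.card F) (hk : 1 ≤ k)
    (ih : ∀ K : Subgroup Gl, K ≠ ⊤ → npts (Fintype.card F) k ≤ K.index)
    {H : Subgroup (Matrix.symplecticGroup (Fin (k + 1)) F)} (hH : H ≠ ⊤) :
    npts (Fintype.card F) (k + 1) ≤ H.index := by
  by_cases hR : NoRt H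
  swap
  · simp only [NoRt, not_forall, not_not] at hR
    obtain ⟨v, hv, hR⟩ := hR
    exact root_bound (by omega) hH hv hR
  obtain ⟨v, hv, hO⟩ := not_all_typeO h2 hq hk hR
  obtain ⟨g, hg⟩ := transitive (e0_ne (F := F) (k := k)) hv
  rw [← index_cj g H]
  exact nonO_bound h2 hq hk ih (noRt_cj hR) fun h => hO (hg ▸ typeO_cj h)

end CfsgLib.SpMin
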