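import Mathlib
import Cfsg.Agent.Lib.SpMin.Odd
import Cfsg.Agent.Lib.SpMin.Even
import Cfsg.Agent.S0244
import Cfsg.Agent.Lib.DicksonFull.Subgroups

/-! The minimal index of `Sp_{2m}(q)`. -/

set_option autoImplicit false

namespace CfsgLib.SpMin

open Matrix

variable {F : Type*} [Field F] [Fintype F]

theorem sp_one_bound (h2 : (2 : F) = 0) (hq : 4 ≤ Fintype.card F)
    (H : Subgroup (Matrix.symplecticGroup (Fin 1) F)) (hH : H ≠ ⊤) : Fintype.card F + 1 ≤ H.index := by
  classical
  have hc2 : ringChar F = 2 := CharP.ringChar_of_prime_eq_zero Nat.prime_two (by exact_mod_cast h2)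
  haveI : CharP F 2 := hc2 ▸ ringChar.charP F
  haveI : Fact (Nat.Prime 2) := ⟨Nat.prime_two⟩
  let ε : Fin 1 ⊕ Fin 1 ≃ Fin 2 := finSumFinEquiv
  let e : Matrix.symplecticGroup (Fin 1) F ≃* Matrix.SpecialLinearGroup (Fin 2) F :=
    { toFun := fun g => ⟨g.1.submatrix ε.symm ε.symm, by
        rw [Matrix.det_submatrix_equiv_self]; exact (Cfsg.Agent.S0244.result _).1 g.2⟩
      invFun := fun g => ⟨g.1.submatrix ε ε, by
        rw [Cfsg.Agent.S0244.result, Matrix.det_submatrix_equiv_self]; exact g.2⟩
      left_inv := fun g => Subtype.ext (by ext i j; simp)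
      right_inv := fun g => Subtype.ext (by ext i j; simp)
      map_mul' := fun g h => Subtype.ext (Matrix.submatrix_mul_equiv g.1 h.1 ε.symm ε.symm ε.symm).symm }
  let π := (QuotientGroup.mk' (Subgroup.center (Matrix.SpecialLinearGroup (Fin 2) F))).comp e.toMonoidHom
  have hπ : Function.Surjective π := (QuotientGroup.mk'_surjective _).comp e.surjective
  have hker : π.ker ≤ H := by
    intro g hg
    have hc : e g ∈ Subgroup.center (Matrix.SpecialLinearGroup (Fin 2) F) := (QuotientGroup.eq_one_iff _).1 hg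
    obtain ⟨r, hr, hre⟩ := Matrix.SpecialLinearGroup.mem_center_iff.1 hc
    simp only [Fintype.card_fin] at hr
    have hr1 : r = 1 := by
      have h4 : (r - 1) ^ 2 = 0 := by linear_combination hr + (1 - r) * h2
      exact sub_eq_zero.1 (pow_eq_zero_iff (n := 2) (by norm_num) |>.1 h4)
    have : e g = 1 := Subtype.ext (by rw [← hre, hr1]; simp)
    rw [e.map_eq_one_iff.1 this]
    exact one_mem H
  rw [← Subgroup.index_map_eq H hπ hker]
  refine CfsgLib.DicksonFull.min_index 2 ?_ fun h => hH ?_
  · obtain ⟨r, hr⟩ : Even (Fintype.card F) := Nat.even_iff.2 (FiniteField.even_card_of_char_two hc2)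
    simp only [Finset.mem_insert, Finset.mem_singleton]
    omega
  · rw [← Subgroup.comap_map_eq_self hker, h, Subgroup.comap_top]

/-- A proper subgroup of `Sp_{2m}(q)` has index at least the number of points. -/
theorem index_bound (hq : 3 ≤ Fintype.card F) {m : ℕ} (hm : 2 ≤ m) (hexc : ¬ (m = 2 ∧ Fintype.card F = 3))
    (H : Subgroup (Matrix.symplecticGroup (Fin m) F)) (hH : H ≠ ⊤) :
    npts (Fintype.card F) m ≤ H.index := by
  by_cases h2 : (2 : F) = 0
  · have hq4 : 4 ≤ Fintype.card F := by
      have hc2 : ringChar F = 2 := CharP.ringChar_of_prime_eq_zero Nat.prime_two (by exact_mod_cast h2)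
      have := FiniteField.even_card_of_char_two hc2
      omega
    clear hexc
    induction m, hm using Nat.le_induction with
    | base => exact even_step (k := 1) h2 hq4 le_rfl (fun K hK => by
        simpa [npts] using sp_one_bound h2 hq4 K hK) hH
    | succ n hn ih => exact even_step h2 hq4 (by omega) (fun K hK => ih K hK) hH
  · have := odd_bound h2 hq m hm H hH
    rwa [oddBd, if_neg hexc] at this

end CfsgLib.SpMin
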