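import Mathlib
import Cfsg.Agent.Lib.SpMin.Tools

/-! The minimal index of `Sp_{2m}(2)`. -/

set_option autoImplicit false
set_option maxHeartbeats 800000

namespace CfsgLib.SpMin

open Matrix Module
open CfsgLib.SympTransvection (tv transitive exists_dot_ne)
open CfsgLib.SympGen
open CfsgLib.SympSimple (ext_apply mulVec_ne_zero exists_perp_ne)

section

variable {F : Type*} [Field F] [Fintype F] {m : ℕ}

local notation "Vec" => (Fin m ⊕ Fin m → F)
local notation "Sp" => Matrix.symplecticGroup (Fin m) F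

theorem zero_or_one (hF : Fintype.card F = 2) (x : F) : x = 0 ∨ x = 1 := by
  classical
  by_contra h
  push Not at h
  have hc : ({0, 1, x} : Finset F).card = 3 := by
    rw [Finset.card_insert_of_notMem (by simp [h.1.symm, zero_ne_one]),
      Finset.card_insert_of_notMem (by simp [h.2.symm]), Finset.card_singleton]
  have := Finset.card_le_univ ({0, 1, x} : Finset F)
  omega

theorem two_eq_zero (hF : Fintype.card F = 2) : (2 : F) = 0 := by
  rcases zero_or_one hF (2 : F) with h | h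
  · exact h
  · exact absurd (show (1 : F) = 0 by linear_combination h) one_ne_zero

theorem add_self_two (hF : Fintype.card F = 2) (x : F) : x + x = 0 := by
  rw [← two_mul, two_eq_zero hF, zero_mul]

theorem rt_iff (hF : Fintype.card F = 2) (H : Subgroup Sp) (v : Vec) : Rt H v ↔ tv v (1 : F) ∈ H := by
  refine ⟨fun h => h 1, fun h c => ?_⟩
  rcases zero_or_one hF c with rfl | rfl
  · rw [SympSimple.tv_zero]; exact one_mem H
  · exact h

/-- The target bound. -/
def bd (m : ℕ) : ℕ := 2 ^ (m - 1) * (2 ^ m - 1)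

theorem bd_le_npts (hm : 2 ≤ m) : bd m ≤ 2 ^ (2 * m) - 1 ∧ 2 * bd m + 2 ^ m = 2 ^ (2 * m) := by
  obtain ⟨l, rfl⟩ : ∃ l, m = l + 2 := ⟨m - 2, by omega⟩
  have h1 : 1 ≤ 2 ^ (l + 2) := Nat.one_le_two_pow
  have e : 2 * bd (l + 2) + 2 ^ (l + 2) = 2 ^ (2 * (l + 2)) := by
    rw [bd, show l + 2 - 1 = l + 1 from rfl, two_mul (l + 2), pow_add 2 (l + 2) (l + 2), ← mul_assoc,
      ← pow_succ']
    rw [show 2 ^ (l + 2) * (2 ^ (l + 2) - 1) + 2 ^ (l + 2) = 2 ^ (l + 2) * (2 ^ (l + 2) - 1 + 1) by ring,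
      Nat.sub_add_cancel h1]
  exact ⟨by omega, e⟩

theorem bd_pos (hm : 2 ≤ m) : 0 < bd m := by
  refine Nat.mul_pos (by positivity) ?_
  have : 2 ^ 1 ≤ 2 ^ m := Nat.pow_le_pow_right (by norm_num) (by omega)
  omega

theorem iso_bound_two (hF : Fintype.card F = 2) (hm : 3 ≤ m) (H : Subgroup Sp) (T : Submodule F Vec)
    (hT : T ≠ ⊥) (hiso : T ≤ perp T) (hinv : Inv H T) : bd m ≤ H.index := by
  classical
  have key := iso_key H T hiso hinv
  rw [hF] at key
  set k := finrank F T with hk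
  have hk1 : 1 ≤ k := Submodule.one_le_finrank_iff.2 hT
  have hkm : k ≤ m := by
    have := Submodule.finrank_mono hiso
    rw [finrank_perp] at this
    omega
  obtain ⟨hb, hb2⟩ := bd_le_npts (m := m) (by omega)
  by_cases h1 : k = 1
  · have := key 1 hk1
    simp only [Finset.prod_range_one, pow_zero, Nat.sub_zero, h1, pow_one] at this
    omega
  by_cases h2 : k = 2
  · have := key 2 (by omega)
    simp only [Finset.prod_range_succ, Finset.prod_range_zero, one_mul, pow_zero, Nat.sub_zero, pow_one, h2] at this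
    have h3 : 2 ^ 4 ≤ 2 ^ (2 * m - 1) := Nat.pow_le_pow_right (by norm_num) (by omega)
    have h4 : bd m * 6 ≤ H.index * 6 :=
      calc bd m * 6 ≤ (2 ^ (2 * m) - 1) * (2 ^ (2 * m - 1) - 2) := Nat.mul_le_mul hb (by omega)
        _ ≤ _ := this
    exact Nat.le_of_mul_le_mul_right h4 (by norm_num)
  have hk3 : 3 ≤ k := by omega
  have := key 3 hk3
  simp only [Finset.prod_range_succ, Finset.prod_range_zero, one_mul, pow_zero, Nat.sub_zero, pow_one] at this
  obtain ⟨l, rfl⟩ : ∃ l, m = l + 3 := ⟨m - 3, by omega⟩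
  rw [show 2 * (l + 3) - 1 = 2 * l + 5 by omega, show 2 * (l + 3) - 2 = 2 * l + 4 by omega] at this
  have hR : (2 ^ k - 1) * (2 ^ k - 2) * (2 ^ k - 2 ^ 2) ≤ 2 ^ (3 * l + 9) := by
    calc (2 ^ k - 1) * (2 ^ k - 2) * (2 ^ k - 2 ^ 2) ≤ 2 ^ k * 2 ^ k * 2 ^ k := by gcongr <;> exact Nat.sub_le _ _
      _ ≤ _ := by rw [← pow_add, ← pow_add]; exact Nat.pow_le_pow_right (by norm_num) (by omega)
  have hp1 : 1 ≤ 2 ^ (2 * l) := Nat.one_le_two_pow
  have hA : 30 * 2 ^ (2 * l) ≤ 2 ^ (2 * l + 5) - 2 := by rw [pow_add]; norm_num; omega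
  have hB : 12 * 2 ^ (2 * l) ≤ 2 ^ (2 * l + 4) - 2 ^ 2 := by rw [pow_add]; norm_num; omega
  have hC : 63 * 2 ^ (2 * l) ≤ 2 ^ (2 * (l + 3)) - 1 := by
    rw [show 2 * (l + 3) = 2 * l + 6 by ring, pow_add]; norm_num; omega
  have hbd : bd (l + 3) ≤ 2 ^ (2 * l + 5) := by
    rw [bd, show l + 3 - 1 = l + 2 from rfl, show 2 * l + 5 = (l + 2) + (l + 3) by ring, pow_add 2 (l + 2) (l + 3)]
    exact Nat.mul_le_mul_left _ (Nat.sub_le _ _)
  refine Nat.le_of_mul_le_mul_right ?_ (pow_pos (show 0 < 2 by norm_num) (3 * l + 9))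
  calc bd (l + 3) * 2 ^ (3 * l + 9) ≤ 2 ^ (2 * l + 5) * 2 ^ (3 * l + 9) := Nat.mul_le_mul_right _ hbd
    _ ≤ 2 ^ (6 * l + 14) := by rw [← pow_add]; exact Nat.pow_le_pow_right (by norm_num) (by omega)
    _ ≤ 63 * (30 * 12) * 2 ^ (6 * l) := by rw [pow_add, mul_comm]; gcongr; norm_num
    _ = 63 * 2 ^ (2 * l) * (30 * 2 ^ (2 * l)) * (12 * 2 ^ (2 * l)) := by ring
    _ ≤ (2 ^ (2 * (l + 3)) - 1) * (2 ^ (2 * l + 5) - 2) * (2 ^ (2 * l + 4) - 2 ^ 2) := by gcongr
    _ ≤ H.index * ((2 ^ k - 1) * (2 ^ k - 2) * (2 ^ k - 2 ^ 2)) := this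
    _ ≤ _ := Nat.mul_le_mul_left _ hR

/-- The orbit of a vector under `H`. -/
def orb (H : Subgroup Sp) (v : Vec) : Set Vec := {x | ∃ h ∈ H, h.1 *ᵥ v = x}

theorem self_mem_orb (H : Subgroup Sp) (v : Vec) : v ∈ orb H v := ⟨1, one_mem H, SympGen.one_apply v⟩

theorem orbit_card (H : Subgroup Sp) (a : Vec) :
    (orb H a).ncard * Nat.card ((Fix a).subgroupOf H) = Nat.card H := by
  classical
  let f : (H ⧸ (Fix a).subgroupOf H) → (orb H a) :=
    Quotient.lift (fun g : H => (⟨g.1.1 *ᵥ a, g.1, g.2, rfl⟩ : orb H a))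
      (fun g g' hgg => by
        have hh : ((g⁻¹ * g' : H) : Sp).1 *ᵥ a = a := QuotientGroup.leftRel_apply.1 hgg
        apply Subtype.ext
        show g.1.1 *ᵥ a = g'.1.1 *ᵥ a
        rw [Subgroup.coe_mul, Subgroup.coe_inv, SympGen.mul_apply] at hh
        conv_lhs => rw [← hh]
        rw [← SympGen.mul_apply, mul_inv_cancel, SympGen.one_apply])
  have hf : Function.Bijective f := by
    refine ⟨?_, fun ⟨x, h, hh, hx⟩ => ⟨QuotientGroup.mk ⟨h, hh⟩, Subtype.ext hx⟩⟩
    intro x y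
    induction x using Quotient.inductionOn
    induction y using Quotient.inductionOn
    rename_i g g'
    intro hxy
    refine Quotient.sound (QuotientGroup.leftRel_apply.2 ?_)
    show ((g⁻¹ * g' : H) : Sp).1 *ᵥ a = a
    have e : g.1.1 *ᵥ a = g'.1.1 *ᵥ a := congrArg Subtype.val hxy
    rw [Subgroup.coe_mul, Subgroup.coe_inv, SympGen.mul_apply, ← e, ← SympGen.mul_apply, inv_mul_cancel,
      SympGen.one_apply]
  rw [← Nat.card_coe_set_eq, ← Nat.card_eq_of_bijective f hf,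
    Subgroup.card_eq_card_quotient_mul_card_subgroup ((Fix a).subgroupOf H)]

theorem orb_cj (g : Sp) (H : Subgroup Sp) (a : Vec) :
    (orb (cj g H) a).ncard = (orb H (g.1 *ᵥ a)).ncard := by
  rw [← Set.ncard_image_of_injective (orb (cj g H) a) (mulVec_inj g)]
  congr 1
  ext x
  constructor
  · rintro ⟨_, ⟨h, hh, rfl⟩, rfl⟩
    refine ⟨g * h * g⁻¹, hh, ?_⟩
    show (g * h * g⁻¹).1 *ᵥ (g.1 *ᵥ a) = g.1 *ᵥ (h.1 *ᵥ a)
    rw [← SympGen.mul_apply, inv_mul_cancel_right, SympGen.mul_apply]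
  · rintro ⟨h, hh, rfl⟩
    refine ⟨(g⁻¹ * h * g).1 *ᵥ a, ⟨g⁻¹ * h * g, ?_, rfl⟩, ?_⟩
    · rw [mem_cj]; simpa [mul_assoc] using hh
    · show g.1 *ᵥ ((g⁻¹ * h * g).1 *ᵥ a) = h.1 *ᵥ (g.1 *ᵥ a)
      rw [← SympGen.mul_apply, ← SympGen.mul_apply, mul_assoc g⁻¹, mul_inv_cancel_left]

theorem card_vec (hF : Fintype.card F = 2) : Fintype.card Vec = 2 ^ (2 * m) := by
  simp [hF, two_mul]

/-- A subgroup with a point whose whole parabolic radical it contains. -/
theorem full_point (hF : Fintype.card F = 2) (hm : 3 ≤ m) {H : Subgroup Sp} (hH : H ≠ ⊤) {v : Vec} (hv : v ≠ 0)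
    (hO : TypeO H v) (ht : Rt H v) : bd m ≤ H.index := by
  classical
  have hq : ∀ u, B v u = 0 → ∀ z, qe v u z ∈ H := by
    intro u hu z
    obtain ⟨z0, hz0⟩ := hO u hu
    have := mul_mem hz0 (ht (z - z0))
    rwa [← qe_zero_left, qe_mul hu (by simp [B]), add_zero, show B (0 : Vec) u = 0 by simp [B], add_zero,
      add_sub_cancel] at this
  have horth : ∀ h ∈ H, ∀ h' ∈ H, B (h.1 *ᵥ v) (h'.1 *ᵥ v) = 0 := by
    intro h hh h' hh'
    rcases zero_or_one hF (B (h.1 *ᵥ v) (h'.1 *ᵥ v)) with e | e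
    · exact e
    exfalso
    set w := (h⁻¹ * h').1 *ᵥ v with hw
    have hvw : B v w = 1 := by
      rw [← B_map h, hw, ← SympGen.mul_apply, mul_inv_cancel_left]; exact e
    have hwR : Rt H w := rt_act (mul_mem (inv_mem hh) hh') ht
    have hpart : ∀ p, B v p = 1 → Rt H p := by
      intro p hp
      have hu : B v (p - w) = 0 := by rw [B_sub_right, hp, hvw, sub_self]
      have hwv : B w v = 1 := by
        rw [B_swap, hvw]; linear_combination -two_eq_zero hF
      have := rt_act (hq _ hu (- B w (p - w))) hwR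
      rwa [qe_apply hu, hwv, one_smul, mul_one, neg_smul,
        show w + B w (p - w) • v + (p - w) + -(B w (p - w) • v) = p by abel] at this
    refine hH (eq_top_of_rt fun x => ?_)
    by_cases hx0 : x = 0
    · intro c; rw [hx0, SympSimple.tv_zero_vec]; exact one_mem H
    rcases zero_or_one hF (B v x) with hx | hx
    swap
    · exact hpart x hx
    by_cases hxv : x = v
    · rw [hxv]; exact ht
    obtain ⟨w0, hw1, hw2⟩ := SympSimple.exists_both hv hx0
    have hw1' : B v w0 = 1 := (zero_or_one hF _).resolve_left (by rw [B_swap]; exact neg_ne_zero.2 hw1)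
    have ha := hpart w0 hw1'
    have hb := hpart (w0 + x) (by rw [B_add_right, hw1', hx, add_zero])
    have := rt_line hb ha (by rw [B_add_left, B_self, zero_add, B_swap]; exact neg_ne_zero.2 hw2) (-1)
    rwa [neg_one_smul, add_neg_cancel_comm] at this
  let S : Set Vec := orb H v
  have h1 : ∀ x ∈ Submodule.span F S, ∀ w ∈ S, B x w = 0 := by
    intro x hx w hw
    induction hx using Submodule.span_induction with
    | mem a ha =>
      obtain ⟨h, hh, rfl⟩ := ha
      obtain ⟨h', hh', rfl⟩ := hw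
      exact horth h hh h' hh'
    | zero => simp [B]
    | add a b _ _ iha ihb => rw [B_add_left, iha, ihb, add_zero]
    | smul c a _ iha => rw [B_smul_left, iha, mul_zero]
  refine iso_bound_two hF hm H (Submodule.span F S) (fun e => hv ?_) (Submodule.span_le.2 fun w hw =>
    mem_perp.2 fun x hx => h1 x hx w hw) ?_
  · have := Submodule.subset_span (R := F) (self_mem_orb H v)
    rwa [e] at this
  · intro h hh x hx
    induction hx using Submodule.span_induction with
    | mem a ha =>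
      obtain ⟨h', hh', rfl⟩ := ha
      exact Submodule.subset_span ⟨h * h', mul_mem hh hh', SympGen.mul_apply h h' v⟩
    | zero => simp
    | add a b _ _ iha ihb => rw [Matrix.mulVec_add]; exact Submodule.add_mem _ iha ihb
    | smul c a _ iha => rw [Matrix.mulVec_smul]; exact Submodule.smul_mem _ c iha

/-- The sign sum of a quadratic function squares to the number of vectors. -/
theorem gauss_sq [DecidableEq F] (hF : Fintype.card F = 2) (φ : Vec → F) (hφ : ∀ x y, φ (x + y) = φ x + φ y + B x y) :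
    (∑ x : Vec, if φ x = 0 then (1 : ℤ) else -1) ^ 2 = 2 ^ (2 * m) := by
  classical
  let s : F → ℤ := fun a => if a = 0 then 1 else -1
  have hs : ∀ a b : F, s (a + b) = s a * s b := by
    intro a b
    rcases zero_or_one hF a with rfl | rfl <;> rcases zero_or_one hF b with rfl | rfl <;>
      simp [s, add_self_two hF]
  show (∑ x : Vec, s (φ x)) ^ 2 = _
  rw [pow_two, Finset.sum_mul_sum]
  have h0 : φ 0 = 0 := by
    have := hφ 0 0
    rw [add_zero, B_self, add_zero] at this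
    exact left_eq_add.1 this
  have h1 : ∀ x : Vec, ∑ y : Vec, s (φ x) * s (φ y) = ∑ d : Vec, s (φ d) * s (B x d) := by
    intro x
    rw [← Equiv.sum_comp (Equiv.addLeft x)]
    refine Finset.sum_congr rfl fun d _ => ?_
    show s (φ x) * s (φ (x + d)) = _
    rw [hφ, ← hs, ← hs]
    congr 1
    linear_combination add_self_two hF (φ x)
  rw [Finset.sum_congr rfl fun x _ => h1 x, Finset.sum_comm]
  have h2 : ∀ d : Vec, ∑ x : Vec, s (φ d) * s (B x d) = if d = 0 then (2 : ℤ) ^ (2 * m) else 0 := by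
    intro d
    rw [← Finset.mul_sum]
    split_ifs with hd
    · subst hd
      simp [h0, B, s, hF, two_mul]
    · obtain ⟨z, hz⟩ := exists_dot_ne hd
      have hz1 : B z d = 1 := (zero_or_one hF _).resolve_left hz
      have : ∑ x : Vec, s (B x d) = 0 := by
        have h3 : ∑ x : Vec, s (B x d) = -∑ x : Vec, s (B x d) := by
          conv_lhs => rw [← Equiv.sum_comp (Equiv.addLeft z)]
          rw [← Finset.sum_neg_distrib]
          refine Finset.sum_congr rfl fun x _ => ?_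
          show s (B (z + x) d) = _
          rw [B_add_left, hs, hz1]
          simp [s]
          split_ifs <;> simp
        linarith
      rw [this, mul_zero]
  rw [Finset.sum_congr rfl fun d _ => h2 d, Finset.sum_ite_eq', if_pos (Finset.mem_univ _)]

theorem sum_sign (φ : Vec → F) [DecidableEq F] : (∑ x : Vec, if φ x = 0 then (1 : ℤ) else -1) =
    2 * ({x | φ x = 0} : Set Vec).ncard - Fintype.card Vec := by
  classical
  rw [Finset.sum_ite, Finset.sum_const, Finset.sum_const, nsmul_one, smul_neg, nsmul_one,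
    show ({x | φ x = 0} : Set Vec).ncard = (Finset.univ.filter fun x => φ x = 0).card by
      rw [← Set.ncard_coe_finset]; congr 1; ext; simp]
  have := Finset.card_filter_add_card_filter_not (s := (Finset.univ : Finset Vec)) (fun x => φ x = 0)
  rw [Finset.card_univ] at this
  omega

theorem zeros_eq (hF : Fintype.card F = 2) (φ : Vec → F) (hφ : ∀ x y, φ (x + y) = φ x + φ y + B x y) :
    2 * ({x | φ x = 0} : Set Vec).ncard + 2 ^ m = 2 ^ (2 * m) ∨
      2 * ({x | φ x = 0} : Set Vec).ncard = 2 ^ (2 * m) + 2 ^ m := by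
  classical
  have h := gauss_sq hF φ hφ
  rw [sum_sign, card_vec hF, show (2 : ℤ) ^ (2 * m) = (2 ^ m) ^ 2 by rw [← pow_mul]; ring_nf] at h
  rcases sq_eq_sq_iff_eq_or_eq_neg.1 h with e | e
  · right
    zify
    push_cast at e ⊢
    linarith
  · left
    zify
    push_cast at e ⊢
    linarith

theorem shift_eq (hF : Fintype.card F = 2) (φ : Vec → F) (hφ : ∀ x y, φ (x + y) = φ x + φ y + B x y) (a x : Vec) :
    φ ((tv a (1 : F)).1 *ᵥ x) = φ x + (1 + φ a) * B x a := by
  rw [tv_apply, one_mul]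
  rcases zero_or_one hF (B x a) with h | h <;> rw [h]
  · simp
  · rw [one_smul, hφ, h]; ring

/-- The stabiliser of a quadratic function has large index. -/
theorem quad_stab (hF : Fintype.card F = 2) (φ : Vec → F) (hφ : ∀ x y, φ (x + y) = φ x + φ y + B x y)
    (K : Subgroup Sp) (hK : ∀ g ∈ K, ∀ x, φ (g.1 *ᵥ x) = φ x) :
    ({x | φ x = 0} : Set Vec).ncard ≤ K.index := by
  classical
  let act : Sp → (Vec → F) → (Vec → F) := fun g f x => f ((g⁻¹).1 *ᵥ x)
  have h := card_le_index_mul act (fun g h f => funext fun x => by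
      show f (((g * h)⁻¹).1 *ᵥ x) = f ((h⁻¹).1 *ᵥ ((g⁻¹).1 *ᵥ x))
      rw [_root_.mul_inv_rev, SympGen.mul_apply]) K
    (Set.range fun g : Sp => act g φ) {φ} (fun g hg f hf => by
      rw [Set.mem_singleton_iff] at hf ⊢
      subst hf
      exact funext fun x => hK _ (inv_mem hg) x) (a0 := φ) rfl (fun f ⟨g, hg⟩ => ⟨g, hg⟩)
  rw [Set.ncard_singleton, mul_one] at h
  refine le_trans ?_ h
  rw [← Set.ncard_image_of_injOn (f := fun a => act ((tv a (1 : F))⁻¹) φ) (s := {x | φ x = 0}) ?_]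
  · refine Set.ncard_le_ncard ?_ (Set.toFinite _)
    rintro _ ⟨a, -, rfl⟩
    exact ⟨_, rfl⟩
  · intro a (ha : φ a = 0) b (hb : φ b = 0) hab
    by_contra hne
    obtain ⟨z, hz⟩ := exists_dot_ne (sub_ne_zero.2 hne)
    apply hz
    have := congrFun hab z
    simp only [act, inv_inv, shift_eq hF φ hφ, ha, hb, add_zero, one_mul, add_right_inj] at this
    show B z (a - b) = 0
    rw [B_sub_right, this, sub_self]

end

variable {F : Type*} [Field F] [Fintype F] {k : ℕ}

local notation "Vl" => (Fin k ⊕ Fin k → F)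
local notation "Gl" => Matrix.symplecticGroup (Fin k) F
local notation "Gb" => Matrix.symplecticGroup (Fin (k + 1)) F

theorem Pt_eq_fix (hF : Fintype.card F = 2) : (Pt : Subgroup Gb) = Fix e0 := by
  ext g
  constructor
  · rintro ⟨c, hc⟩
    rcases zero_or_one hF c with rfl | rfl
    · exact absurd (by rw [hc, zero_smul]) (mulVec_ne_zero g e0_ne)
    · show g.1 *ᵥ e0 = e0
      rw [hc, one_smul]
  · intro (hg : g.1 *ᵥ e0 = e0)
    exact ⟨1, by rw [hg, one_smul]⟩

/-- The exact count at the standard point. -/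
theorem orb_ineq (hF : Fintype.card F = 2) (H : Subgroup (Matrix.symplecticGroup (Fin (k + 1)) F)) :
    (K0 H).index * (2 ^ (2 * k) * 2) * (2 ^ (2 * (k + 1)) - 1) ≤
      H.index * (orb H (e0 : Fin (k + 1) ⊕ Fin (k + 1) → F)).ncard * (Nat.card (Wh H) * Nat.card (Zh H)) := by
  classical
  have hsc : Nat.card (Sc H) = 1 := by
    haveI : Subsingleton Fˣ := ⟨fun a b => Units.ext (by
      rw [(zero_or_one hF (a : F)).resolve_left a.ne_zero, (zero_or_one hF (b : F)).resolve_left b.ne_zero])⟩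
    exact Nat.card_unique
  have hsub : ∀ K : Subgroup Gb, Nat.card ((Fix (e0 : Fin (k + 1) ⊕ Fin (k + 1) → F)).subgroupOf K) =
      Nat.card (K.subgroupOf (Pt : Subgroup Gb)) := fun K => by
    rw [Pt_eq_fix hF]
    exact Nat.card_congr
      { toFun := fun x => ⟨⟨x.1.1, x.2⟩, x.1.2⟩
        invFun := fun x => ⟨⟨x.1.1, x.2⟩, x.1.2⟩
        left_inv := fun x => rfl
        right_inv := fun x => rfl }
  have hH := orbit_card H (e0 : Fin (k + 1) ⊕ Fin (k + 1) → F)
  rw [hsub, card_inf_Pt, hsc, one_mul] at hH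
  have hG := orbit_card (⊤ : Subgroup Gb) (e0 : Fin (k + 1) ⊕ Fin (k + 1) → F)
  rw [hsub, Subgroup.card_top] at hG
  have hT : Nat.card ((⊤ : Subgroup Gb).subgroupOf (Pt : Subgroup Gb)) = Nat.card (Pt : Subgroup Gb) := by
    rw [Subgroup.top_subgroupOf, Subgroup.card_top]
  rw [hT, card_Pt, hF] at hG
  have horb : (2 ^ (2 * (k + 1)) - 1) ≤ (orb (⊤ : Subgroup Gb) (e0 : Fin (k + 1) ⊕ Fin (k + 1) → F)).ncard := by
    have hsub' : ({x | x ≠ 0} : Set (Fin (k + 1) ⊕ Fin (k + 1) → F)) ⊆ orb ⊤ e0 := fun x hx => by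
      obtain ⟨g, hg⟩ := transitive e0_ne hx
      exact ⟨g, trivial, hg⟩
    refine le_trans (le_of_eq ?_) (Set.ncard_le_ncard hsub' (Set.toFinite _))
    rw [show ({x | x ≠ 0} : Set (Fin (k + 1) ⊕ Fin (k + 1) → F)) = Set.univ \ {0} by ext; simp,
      Set.ncard_sdiff_singleton_of_mem (Set.mem_univ _), Set.ncard_univ, Nat.card_eq_fintype_card, card_vec hF]
  have hi := H.index_mul_card
  rw [← hH, ← hG] at hi
  have hK := (K0 H).card_mul_index
  rw [← hK] at hi
  refine Nat.le_of_mul_le_mul_left ?_ (Nat.card_pos (α := K0 H))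
  calc Nat.card (K0 H) * ((K0 H).index * (2 ^ (2 * k) * 2) * (2 ^ (2 * (k + 1)) - 1))
      = (2 ^ (2 * (k + 1)) - 1) * ((2 - 1) * (Nat.card (K0 H) * (K0 H).index) * (2 ^ (2 * k) * 2)) := by ring
    _ ≤ _ := Nat.mul_le_mul_right _ horb
    _ = _ := hi.symm
    _ = _ := by ring

/-- A point that is not of type O. -/
theorem nonO_two (hF : Fintype.card F = 2) {H : Subgroup (Matrix.symplecticGroup (Fin (k + 1)) F)}
    (hO : ¬ TypeO H (e0 : Fin (k + 1) ⊕ Fin (k + 1) → F)) :
    2 ^ (2 * k) * 2 * (2 ^ (2 * (k + 1)) - 1) ≤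
      H.index * (orb H (e0 : Fin (k + 1) ⊕ Fin (k + 1) → F)).ncard * Nat.card (Zh H) := by
  classical
  obtain ⟨φ, hφ⟩ := (AddChar.exists_apply_ne_zero (a := (1 : F))).2 one_ne_zero
  have hψ : φ ≠ 0 := AddChar.ne_zero_iff.2 ⟨1, hφ⟩
  set A := ann φ (Wh H)
  have hcard := card_ann hψ (Wh H)
  rw [hF] at hcard
  have hA1 : A ≠ ⊥ := by
    intro e
    rw [show ann φ (Wh H) = ⊥ from e, AddSubgroup.card_bot, one_mul] at hcard
    have hW : Wh H = ⊤ := AddSubgroup.eq_top_of_card_eq _ (by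
      rw [hcard, Nat.card_eq_fintype_card, card_vec hF])
    apply hO
    intro u hu
    have hur : u (Sum.inr 0) = 0 := by rwa [B_swap, B_e0, neg_eq_zero] at hu
    obtain ⟨z, hz⟩ : pr u ∈ Wh H := hW ▸ AddSubgroup.mem_top _
    refine ⟨z, ?_⟩
    have hdec : u = inc (pr u) + u (Sum.inl 0) • e0 := by
      conv_lhs => rw [split_vec u, hur, zero_smul, add_zero, add_comm]
    rw [hdec, qe_add_line (e0_inc _), two_eq_zero hF, zero_mul, add_zero]
    exact hz
  obtain ⟨a, haA, ha0⟩ : ∃ a, a ∈ A ∧ a ≠ 0 := by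
    by_contra hc
    push Not at hc
    exact hA1 (eq_bot_iff.2 fun x hx => hc x hx)
  have hinv : ∀ g ∈ K0 H, ∀ y ∈ A, g.1 *ᵥ y ∈ A := by
    intro g hg y hy w hw
    have hw' := act_wh (p := (1, g⁻¹)) (inv_mem (show ((1, g) : Fˣ × Gl) ∈ Rg H from hg) |> fun h => by simpa using h) hw
    rw [Units.val_one, one_smul] at hw'
    rw [← B_map g⁻¹, ← SympGen.mul_apply, inv_mul_cancel, SympGen.one_apply]
    exact hy _ hw'
  have horb := orbit_bound (K0 H) (A : Set Vl) hinv haA ha0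
  rw [hF, Set.ncard_sdiff_singleton_of_mem (zero_mem A)] at horb
  change 2 ^ (2 * k) - 1 ≤ (K0 H).index * (Nat.card A - 1) at horb
  have hX : 2 ^ (2 * k) ≤ (K0 H).index * Nat.card A := by
    have : 0 < (K0 H).index := Nat.pos_of_ne_zero Subgroup.index_ne_zero_of_finite
    obtain ⟨s, hs⟩ : ∃ s, Nat.card A = s + 1 := ⟨Nat.card A - 1, by
      have := Nat.card_pos (α := A); omega⟩
    rw [hs, Nat.add_sub_cancel] at horb
    rw [hs, mul_add, mul_one]
    omega
  refine Nat.le_of_mul_le_mul_right ?_ (Nat.card_pos (α := Wh H))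
  calc 2 ^ (2 * k) * 2 * (2 ^ (2 * (k + 1)) - 1) * Nat.card (Wh H)
      ≤ (K0 H).index * Nat.card A * 2 * (2 ^ (2 * (k + 1)) - 1) * Nat.card (Wh H) := by gcongr
    _ = (K0 H).index * (Nat.card A * Nat.card (Wh H) * 2) * (2 ^ (2 * (k + 1)) - 1) := by ring
    _ = (K0 H).index * (2 ^ (2 * k) * 2) * (2 ^ (2 * (k + 1)) - 1) := by rw [hcard]
    _ ≤ _ := orb_ineq hF H
    _ = _ := by ring

/-- A point of type O without its transvection. -/
theorem typeO_two (hF : Fintype.card F = 2) {H : Subgroup (Matrix.symplecticGroup (Fin (k + 1)) F)}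
    (hO : TypeO H (e0 : Fin (k + 1) ⊕ Fin (k + 1) → F)) (ht : ¬ Rt H (e0 : Fin (k + 1) ⊕ Fin (k + 1) → F)) :
    2 ^ k * (2 ^ k - 1) * (2 ^ (2 * (k + 1)) - 1) ≤
      H.index * (orb H (e0 : Fin (k + 1) ⊕ Fin (k + 1) → F)).ncard := by
  classical
  have ht' : ∀ z, tv (e0 : Fin (k + 1) ⊕ Fin (k + 1) → F) z ∈ H → z = 0 := fun z hz =>
    (zero_or_one hF z).resolve_right fun e => ht ((rt_iff hF H _).2 (e ▸ hz))
  have hex : ∀ u : Vl, ∃ z, sg u z ∈ H := fun u => hO (inc u) (e0_inc u)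
  have huniq : ∀ (u : Vl) (z z' : F), sg u z ∈ H → sg u z' ∈ H → z = z' := by
    intro u z z' h h'
    have h2 := mul_mem h (inv_mem h')
    rw [sg_inv, sg_mul, add_neg_cancel, sg_zero] at h2
    have := ht' _ h2
    rw [← neg_one_smul F u, B_smul_left, B_self, mul_zero, add_zero] at this
    linear_combination this
  choose φ hφ using hex
  have hpol : ∀ x y, φ (x + y) = φ x + φ y + B x y := by
    intro x y
    have h := mul_mem (hφ y) (hφ x)
    rw [sg_mul, add_comm y x] at h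
    rw [huniq _ _ _ (hφ (x + y)) h]
    ring
  have hK : ∀ g ∈ K0 H, ∀ x, φ (g.1 *ᵥ x) = φ x := by
    intro g hg x
    obtain ⟨u0, z0, h⟩ := (mem_K0 H).1 hg
    have h2 := mul_mem (mul_mem h (hφ x)) (inv_mem h)
    rw [show emb 1 g * sg u0 z0 * sg x (φ x) * (emb 1 g * sg u0 z0)⁻¹ =
      emb 1 g * (sg u0 z0 * sg x (φ x) * (sg u0 z0)⁻¹) * (emb 1 g)⁻¹ by group,
      sg_inv, sg_mul, sg_mul, show u0 + x + -u0 = x by abel, emb_conj_sg, Units.val_one, one_smul, one_pow,
      one_mul] at h2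
    rw [huniq _ _ _ (hφ _) h2, ← neg_one_smul F u0, B_smul_left, B_add_right, B_self, zero_add, B_swap x u0]
    linear_combination -(B u0 x) * two_eq_zero hF
  have hz := quad_stab hF φ hpol (K0 H) hK
  have hz' : 2 ^ k * (2 ^ k - 1) ≤ 2 * ({x | φ x = 0} : Set Vl).ncard := by
    have e : 2 ^ k * (2 ^ k - 1) + 2 ^ k = 2 ^ (2 * k) := by
      have : 1 ≤ 2 ^ k := Nat.one_le_two_pow
      rw [two_mul, pow_add]
      conv_rhs => rw [show 2 ^ k * 2 ^ k = 2 ^ k * (2 ^ k - 1 + 1) by rw [Nat.sub_add_cancel this]]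
      ring
    generalize hXe : 2 ^ k * (2 ^ k - 1) = X at e ⊢
    have hpk : 0 < 2 ^ k := Nat.two_pow_pos k
    rcases zeros_eq hF φ hpol with h | h <;> omega
  have hw : Nat.card (Wh H) ≤ 2 ^ (2 * k) := by
    refine (Nat.card_le_card_of_injective _ Subtype.val_injective).trans ?_
    rw [Nat.card_eq_fintype_card, card_vec hF]
  have hzh : Nat.card (Zh H) = 1 := by
    rw [AddSubgroup.card_eq_one]
    exact eq_bot_iff.2 fun z hz => ht' z hz
  have h := orb_ineq hF H
  rw [hzh, mul_one] at h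
  refine Nat.le_of_mul_le_mul_right ?_ (pow_pos (show 0 < 2 by norm_num) (2 * k))
  calc 2 ^ k * (2 ^ k - 1) * (2 ^ (2 * (k + 1)) - 1) * 2 ^ (2 * k)
      ≤ 2 * (K0 H).index * (2 ^ (2 * (k + 1)) - 1) * 2 ^ (2 * k) := by
        exact Nat.mul_le_mul_right _ (Nat.mul_le_mul_right _ (hz'.trans (Nat.mul_le_mul_left _ hz)))
    _ = (K0 H).index * (2 ^ (2 * k) * 2) * (2 ^ (2 * (k + 1)) - 1) := by ring
    _ ≤ _ := h
    _ ≤ _ := Nat.mul_le_mul_left _ hw

/-- The minimal index of `Sp_{2m}(2)`. -/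
theorem two_bound (hF : Fintype.card F = 2) (hk : 2 ≤ k) {H : Subgroup (Matrix.symplecticGroup (Fin (k + 1)) F)}
    (hH : H ≠ ⊤) : bd (k + 1) ≤ H.index := by
  classical
  have h2 := two_eq_zero hF
  obtain ⟨hb, hb2⟩ := bd_le_npts (m := k + 1) (by omega)
  have hN : 0 < 2 ^ (2 * (k + 1)) - 1 := by
    have := bd_pos (m := k + 1) (by omega); omega
  by_cases hfull : ∃ v, v ≠ 0 ∧ TypeO H v ∧ Rt H v
  · obtain ⟨v, hv, hO, ht⟩ := hfull
    exact full_point hF (by omega) hH hv hO ht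
  push Not at hfull
  -- the contribution of a point
  have hcontr : ∀ v : Fin (k + 1) ⊕ Fin (k + 1) → F, v ≠ 0 →
      (¬ Rt H v → ¬ TypeO H v → 2 ^ (2 * k + 1) * (2 ^ (2 * (k + 1)) - 1) ≤ H.index * (orb H v).ncard) ∧
      (Rt H v → 2 ^ (2 * k) * (2 ^ (2 * (k + 1)) - 1) ≤ H.index * (orb H v).ncard) ∧
      (¬ Rt H v → TypeO H v → 2 ^ k * (2 ^ k - 1) * (2 ^ (2 * (k + 1)) - 1) ≤ H.index * (orb H v).ncard) := by
    intro v hv
    obtain ⟨g, hg⟩ := transitive (e0_ne (F := F) (k := k)) hv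
    have hO : TypeO (cj g H) e0 → TypeO H v := fun h => hg ▸ typeO_cj h
    have hO' : TypeO H v → TypeO (cj g H) e0 := by
      intro h u hu
      obtain ⟨z, hz⟩ := h (g.1 *ᵥ u) (by rw [← hg, B_map]; exact hu)
      exact ⟨z, by rw [mem_cj, conj_qe, hg]; exact hz⟩
    have hR : Rt (cj g H) e0 ↔ Rt H v := by
      refine forall_congr' fun c => ?_
      rw [mem_cj, conj_tv, hg]
    have horb : (orb (cj g H) (e0 : Fin (k + 1) ⊕ Fin (k + 1) → F)).ncard = (orb H v).ncard := by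
      rw [orb_cj, hg]
    refine ⟨fun ht hnO => ?_, fun ht => ?_, fun ht hvO => ?_⟩
    · have := nonO_two hF (H := cj g H) fun h => hnO (hO h)
      rw [index_cj, horb, show Nat.card (Zh (cj g H)) = 1 from ?_, mul_one] at this
      · rw [pow_succ]; exact this
      · rw [AddSubgroup.card_eq_one]
        refine eq_bot_iff.2 fun z hz => ?_
        rcases zero_or_one hF z with rfl | rfl
        · rfl
        · exact absurd (hR.1 ((rt_iff hF _ _).2 hz)) ht
    · have := nonO_two hF (H := cj g H) fun h => hfull v hv (hO h) ht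
      rw [index_cj, horb] at this
      have hz : Nat.card (Zh (cj g H)) ≤ 2 := by
        refine (Nat.card_le_card_of_injective _ Subtype.val_injective).trans ?_
        rw [Nat.card_eq_fintype_card, hF]
      refine Nat.le_of_mul_le_mul_right ?_ (show 0 < 2 by norm_num)
      calc 2 ^ (2 * k) * (2 ^ (2 * (k + 1)) - 1) * 2 = 2 ^ (2 * k) * 2 * (2 ^ (2 * (k + 1)) - 1) := by ring
        _ ≤ _ := this
        _ ≤ _ := Nat.mul_le_mul_left _ hz
    · have := typeO_two hF (H := cj g H) (hO' hvO) fun h => ht (hR.1 h)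
      rwa [index_cj, horb] at this
  have hle : ∀ v, (orb H v).ncard ≤ 2 ^ (2 * (k + 1)) := fun v => by
    refine (Set.ncard_le_ncard (Set.subset_univ _) (Set.toFinite _)).trans ?_
    rw [Set.ncard_univ, Nat.card_eq_fintype_card, card_vec hF]
  have horbN : ∀ v, v ≠ 0 → (orb H v).ncard ≤ 2 ^ (2 * (k + 1)) - 1 := fun v hv => by
    have hsub : orb H v ⊆ Set.univ \ {0} := by
      rintro _ ⟨h, -, rfl⟩
      exact ⟨trivial, mulVec_ne_zero h hv⟩
    refine (Set.ncard_le_ncard hsub (Set.toFinite _)).trans (le_of_eq ?_)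
    rw [Set.ncard_sdiff_singleton_of_mem (Set.mem_univ _), Set.ncard_univ, Nat.card_eq_fintype_card, card_vec hF]
  have hbk : bd (k + 1) = 2 ^ (2 * k) + 2 ^ k * (2 ^ k - 1) := by
    have e : 2 ^ k * (2 ^ k - 1) + 2 ^ k = 2 ^ (2 * k) := by
      have : 1 ≤ 2 ^ k := Nat.one_le_two_pow
      rw [two_mul, pow_add]
      conv_rhs => rw [show 2 ^ k * 2 ^ k = 2 ^ k * (2 ^ k - 1 + 1) by rw [Nat.sub_add_cancel this]]
      ring
    have e2 : 2 ^ (2 * (k + 1)) = 4 * 2 ^ (2 * k) := by rw [show 2 * (k + 1) = 2 * k + 2 by ring, pow_add]; ring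
    have e3 : 2 ^ (k + 1) = 2 * 2 ^ k := by rw [pow_succ]; ring
    omega
  by_cases hbig : ∃ v, v ≠ 0 ∧ ¬ Rt H v ∧ ¬ TypeO H v
  · obtain ⟨v, hv, ht, hnO⟩ := hbig
    refine le_trans ?_ (Nat.le_of_mul_le_mul_right (((hcontr v hv).1 ht hnO).trans
      (Nat.mul_le_mul_left _ (horbN v hv))) hN)
    rw [pow_succ, hbk]
    have := Nat.mul_le_mul_left (2 ^ k) (Nat.sub_le (2 ^ k) 1)
    rw [← pow_add, ← two_mul] at this
    omega
  push Not at hbig
  by_cases hT : ∀ v : Fin (k + 1) ⊕ Fin (k + 1) → F, v ≠ 0 → Rt H v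
  · refine absurd (eq_top_of_rt fun v => ?_) hH
    by_cases hv : v = 0
    · intro c; rw [hv, SympSimple.tv_zero_vec]; exact one_mem H
    · exact hT v hv
  push Not at hT
  obtain ⟨w, hw, hwt⟩ := hT
  by_cases hA : ∀ v : Fin (k + 1) ⊕ Fin (k + 1) → F, v ≠ 0 → ¬ Rt H v
  swap
  · push Not at hA
    obtain ⟨v, hv, hvt⟩ := hA
    have hdisj : Disjoint (orb H v) (orb H w) := Set.disjoint_left.2 fun x hx hx' => by
      obtain ⟨h, hh, rfl⟩ := hx
      obtain ⟨h', hh', e⟩ := hx'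
      apply hwt
      have := rt_act (mul_mem (inv_mem hh') hh) hvt
      rwa [SympGen.mul_apply, ← e, ← SympGen.mul_apply, inv_mul_cancel, SympGen.one_apply] at this
    have hsum : (orb H v).ncard + (orb H w).ncard ≤ 2 ^ (2 * (k + 1)) - 1 := by
      rw [← Set.ncard_union_eq hdisj (Set.toFinite _) (Set.toFinite _)]
      have hsub : orb H v ∪ orb H w ⊆ Set.univ \ {0} := by
        rintro _ (⟨h, -, rfl⟩ | ⟨h, -, rfl⟩)
        · exact ⟨trivial, mulVec_ne_zero h hv⟩
        · exact ⟨trivial, mulVec_ne_zero h hw⟩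
      refine (Set.ncard_le_ncard hsub (Set.toFinite _)).trans (le_of_eq ?_)
      rw [Set.ncard_sdiff_singleton_of_mem (Set.mem_univ _), Set.ncard_univ, Nat.card_eq_fintype_card, card_vec hF]
    refine Nat.le_of_mul_le_mul_right ?_ hN
    calc bd (k + 1) * (2 ^ (2 * (k + 1)) - 1)
        = 2 ^ (2 * k) * (2 ^ (2 * (k + 1)) - 1) + 2 ^ k * (2 ^ k - 1) * (2 ^ (2 * (k + 1)) - 1) := by
          rw [hbk]; ring
      _ ≤ H.index * (orb H v).ncard + H.index * (orb H w).ncard :=
          Nat.add_le_add ((hcontr v hv).2.1 hvt) ((hcontr w hw).2.2 hwt (hbig w hw hwt))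
      _ = H.index * ((orb H v).ncard + (orb H w).ncard) := by ring
      _ ≤ _ := Nat.mul_le_mul_left _ hsum
  -- every point is of type O and no transvection lies in `H`
  exfalso
  have hOall : ∀ v : Fin (k + 1) ⊕ Fin (k + 1) → F, v ≠ 0 → TypeO H v := fun v hv => hbig v hv (hA v hv)
  have key : ∀ a : Vl, a ≠ 0 → sg a (0 : F) ∈ H := by
    intro a ha
    obtain ⟨b, hbp, hbn⟩ : ∃ b, b ∈ perp (F ∙ a) ∧ b ∉ F ∙ a := by
      by_contra h
      push Not at h
      have h' : perp (F ∙ a) ≤ F ∙ a := fun x hx => h x hx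
      have := Submodule.finrank_mono h'
      rw [finrank_perp, finrank_span_singleton ha] at this
      omega
    have hab : B a b = 0 := mem_perp.1 hbp a (Submodule.mem_span_singleton_self a)
    have hind : ∀ c : F, b ≠ c • a := fun c e => hbn (Submodule.mem_span_singleton.2 ⟨c, e.symm⟩)
    obtain ⟨c, hc1, hc2⟩ := exists_perp_ne ha hind
    have hai : inc a ≠ 0 := fun h => ha (by rw [← pr_inc a, h]; rfl)
    have hBac : B (inc a) (inc c) = 0 := by rw [B_inc, B_swap, hc1, neg_zero]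
    obtain ⟨z, hz⟩ := hOall (inc a) hai (inc c) hBac
    obtain ⟨g, hg⟩ := hOall e0 e0_ne (inc b) (e0_inc b)
    have h3 := mul_mem (mul_mem hz hg) (inv_mem hz)
    rw [conj_qe, qe_apply hBac, qe_apply hBac, B_inc, B_inc, e0_inc, e0_inc,
      show B b a = 0 by rw [B_swap, hab, neg_zero],
      show B b c = 1 from (zero_or_one hF _).resolve_left (by rw [B_swap]; exact neg_ne_zero.2 hc2)] at h3
    simp only [zero_smul, add_zero, mul_zero, one_smul] at h3
    have h4 := mul_mem (show sg (b + a) g ∈ H by show qe e0 (inc (b + a)) g ∈ H; rw [map_add]; exact h3)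
      (inv_mem (show sg b g ∈ H from hg))
    rw [sg_inv, sg_mul, add_neg_cancel_comm, add_neg_cancel, zero_add, ← neg_one_smul F b, B_smul_left,
      B_add_right, B_self, show B b a = 0 by rw [B_swap, hab, neg_zero], add_zero, mul_zero] at h4
    exact h4
  let a : Vl := bas (Sum.inl ⟨0, by omega⟩)
  let a' : Vl := bas (Sum.inr ⟨0, by omega⟩)
  have hB : B a' a = 1 := by
    show B (bas (Sum.inr (⟨0, by omega⟩ : Fin k))) (bas (Sum.inl (⟨0, by omega⟩ : Fin k))) = (1 : F)
    rw [B_bas_inl_inr, if_pos rfl]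
  have ha : a ≠ 0 := fun h => by rw [h] at hB; simp [B] at hB
  have ha' : a' ≠ 0 := fun h => by rw [h] at hB; simp [B] at hB
  have hs : a + a' ≠ 0 := fun h => by
    rw [show a' = -a from eq_neg_of_add_eq_zero_right h, ← neg_one_smul F a, B_smul_left, B_self, mul_zero] at hB
    exact zero_ne_one hB
  have h3 := mul_mem (inv_mem (key _ hs)) (mul_mem (key a ha) (key a' ha'))
  rw [sg_mul, sg_inv, sg_mul, neg_add_cancel, sg_zero, hB] at h3
  refine hA e0 e0_ne ((rt_iff hF H _).2 ?_)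
  convert h3 using 2
  rw [← neg_one_smul F (a + a'), B_smul_right, B_self, mul_zero]
  ring

end CfsgLib.SpMin
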